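import Groth.Agent.QuotSchLib.HilbQuot
import Groth.Agent.CycKSuppLib.Killed
import Groth.Agent.FormalCohLib.QuotK
import Groth.Agent.ConsLib.ModLoci

/-!
# Exactness on affine opens, and closed subschemes as modules
-/

set_option autoImplicit false
set_option maxHeartbeats 1000000
set_option linter.unusedSectionVars false
set_option backward.isDefEq.respectTransparency false

universe u

open CategoryTheory CategoryTheory.Limits AlgebraicGeometry TopologicalSpace Opposite

noncomputable section

namespace DefClassLib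

variable {Y Z : Scheme.{u}}

/-- Morphisms agreeing on affine opens are equal. -/
theorem hom_ext_affines {M N : Y.Modules} {φ ψ : M ⟶ N}
    (h : ∀ (V : Y.affineOpens) (s : Γ(M, V.1)), φ.app V.1 s = ψ.app V.1 s) : φ = ψ :=
  sub_eq_zero.1 (QuotSchLib.hom_zero_of_affines (φ - ψ) fun V s => by
    show φ.app V.1 s - ψ.app V.1 s = 0
    exact sub_eq_zero.2 (h V s))

/-- A morphism surjective on affine opens is an epimorphism. -/
theorem epi_of_affines {M N : Y.Modules} (φ : M ⟶ N)
    (h : ∀ V : Y.affineOpens, Function.Surjective (φ.app V.1)) : Epi φ := by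
  refine Abelian.epi_of_cokernel_π_eq_zero _ ((DevissLib.isZero_of_support_empty
    (Set.eq_empty_of_forall_notMem fun y hy => DevissLib.notMem_support_cokernel _ y (fun a => ?_) hy)).eq_of_tgt _ _)
  obtain ⟨U, hyU, t, rfl⟩ := DevissLib.exists_gm_eq _ y a
  obtain ⟨V, hV, hyV, hVU⟩ := Opens.isBasis_iff_nbhd.mp Y.isBasis_affineOpens hyU
  obtain ⟨s, hs⟩ := h ⟨V, hV⟩ (N.presheaf.map (homOfLE hVU).op t)
  refine ⟨DevissLib.gm _ y hyV s, ?_⟩
  rw [DevissLib.gm_app]
  exact (congrArg _ hs).trans (DevissLib.gm_map _ hVU y hyV t)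

/-- A morphism injective on affine opens is a monomorphism. -/
theorem mono_of_affines {M N : Y.Modules} (φ : M ⟶ N)
    (h : ∀ V : Y.affineOpens, Function.Injective (φ.app V.1)) : Mono φ :=
  Preadditive.mono_of_cancel_zero _ fun {P} g hg => QuotSchLib.hom_zero_of_affines g fun V s => by
    refine h V (Eq.trans ?_ (map_zero _).symm)
    exact congr(Scheme.Modules.Hom.app $hg V.1 s)

/-- A complex exact on affine opens is short exact. -/
theorem shortExact_of_affines {S : ShortComplex Y.Modules}
    (h₁ : ∀ V : Y.affineOpens, Function.Injective (S.f.app V.1))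
    (h₂ : ∀ (V : Y.affineOpens) (m : Γ(S.X₂, V.1)), S.g.app V.1 m = 0 → ∃ a, S.f.app V.1 a = m)
    (h₃ : ∀ V : Y.affineOpens, Function.Surjective (S.g.app V.1)) : S.ShortExact :=
  have := mono_of_affines _ h₁
  have := epi_of_affines _ h₃
  { exact := S.exact_iff_epi_kernel_lift.2 (epi_of_affines _ fun V c => by
      have hc : S.g.app V.1 ((kernel.ι S.g).app V.1 c) = 0 := congr(Scheme.Modules.Hom.app $(kernel.condition S.g) V.1 c)
      obtain ⟨a, ha⟩ := h₂ V _ hc
      refine ⟨a, QCohLib.app_injective_of_mono (kernel.ι S.g) V.1 ?_⟩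
      exact (congr(Scheme.Modules.Hom.app $(kernel.lift_ι S.g S.f S.zero) V.1 a)).trans ha) }

/-- The ideal of a closed subscheme, as a module. -/
abbrev idl (j : Z ⟶ Y) : Y.Modules := kernel (ClSub.unitToPush j)

/-- Its inclusion. -/
abbrev idlι (j : Z ⟶ Y) : idl j ⟶ Coh.structureModule Y := kernel.ι (ClSub.unitToPush j)

/-- The function underlying a section of the ideal. -/
def val (j : Z ⟶ Y) {W : Y.Opens} (a : Γ(idl j, W)) : Γ(Y, W) := (idlι j).app W a

lemma val_injective (j : Z ⟶ Y) {W : Y.Opens} : Function.Injective (val j (W := W)) :=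
  QCohLib.app_injective_of_mono (idlι j) W

lemma app_val (j : Z ⟶ Y) {W : Y.Opens} (a : Γ(idl j, W)) : j.app W (val j a) = 0 :=
  congr(Scheme.Modules.Hom.app $(kernel.condition (ClSub.unitToPush j)) W a)

lemma exists_val (j : Z ⟶ Y) {W : Y.Opens} (r : Γ(Y, W)) (hr : j.app W r = 0) :
    ∃ a : Γ(idl j, W), val j a = r :=
  QCohLib.exists_of_app_eq_zero
    (S := ShortComplex.mk (idlι j) (ClSub.unitToPush j) (kernel.condition _))
    (ShortComplex.exact_of_f_is_kernel _ (kernelIsKernel _)) inferInstance r hr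

/-- The section of the ideal with a given underlying function. -/
def mkI (j : Z ⟶ Y) {W : Y.Opens} (r : Γ(Y, W)) (hr : j.app W r = 0) : Γ(idl j, W) :=
  (exists_val j r hr).choose

@[simp] lemma val_mkI (j : Z ⟶ Y) {W : Y.Opens} (r : Γ(Y, W)) (hr : j.app W r = 0) : val j (mkI j r hr) = r :=
  (exists_val j r hr).choose_spec

lemma val_add (j : Z ⟶ Y) {W : Y.Opens} (a b : Γ(idl j, W)) : val j (a + b) = val j a + val j b :=
  map_add ((idlι j).app W).hom a b

lemma val_zero (j : Z ⟶ Y) {W : Y.Opens} : val j (0 : Γ(idl j, W)) = 0 :=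
  map_zero ((idlι j).app W).hom

lemma val_sum (j : Z ⟶ Y) {W : Y.Opens} {ι : Type*} (s : Finset ι) (a : ι → Γ(idl j, W)) :
    val j (∑ l ∈ s, a l) = ∑ l ∈ s, val j (a l) :=
  map_sum ((idlι j).app W).hom a s

lemma val_smul (j : Z ⟶ Y) {W : Y.Opens} (r : Γ(Y, W)) (a : Γ(idl j, W)) : val j (r • a) = r * val j a :=
  QCohLib.app_smul (idlι j) W r a

lemma val_map (j : Z ⟶ Y) {W W' : Y.Opens} (h : W' ≤ W) (a : Γ(idl j, W)) :
    val j ((idl j).presheaf.map (homOfLE h).op a) = Y.presheaf.map (homOfLE h).op (val j a) :=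
  QCohLib.app_map (idlι j) (homOfLE h) a

lemma isQCoh_idl (j : Z ⟶ Y) [IsClosedImmersion j] : Coh.IsQCoh (idl j) := by
  haveI : Coh.IsQCoh (Coh.structureModule Y) := QCohLib.isQCoh_unit
  haveI : Coh.IsQCoh (Coh.structureModule Z) := QCohLib.isQCoh_unit
  haveI : Coh.IsQCoh ((Scheme.Modules.pushforward j).obj (Coh.structureModule Z)) :=
    QCohLib.isQCoh_pushforward j _
  exact QCohLib.isQCoh_kernel _

lemma isCoh_idl (j : Z ⟶ Y) [IsClosedImmersion j] [IsLocallyNoetherian Y] : Coh.IsCoh (idl j) :=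
  QCohLib.isCoh_kernel _ (DevissLib.isCoh_structureModule Y)
    (QCohLib.isCoh_push_finite j _ (DevissLib.isCoh_structureModule Z)).1

variable (c : Z ⟶ Y) [IsClosedImmersion c] (M : Y.Modules)

/-- The unit of a closed immersion is an epimorphism. -/
theorem epi_unit : Epi ((Scheme.Modules.pullbackPushforwardAdjunction c).unit.app M) := by
  let adj := Scheme.Modules.pullbackPushforwardAdjunction c
  let η := adj.unit.app M
  have hk : ClSub.KilledByIdeal c.ker ((Scheme.Modules.pushforward c).obj ((Scheme.Modules.pullback c).obj M)) :=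
    CycKSuppLib.killed_push c _
  let P := Abelian.image η
  have hP : ClSub.KilledByIdeal c.ker P := fun W a ha m => by
    refine QCohLib.app_injective_of_mono (Abelian.image.ι η) W.1 ?_
    exact (QCohLib.app_smul (Abelian.image.ι η) W.1 a m).trans ((hk W a ha _).trans (map_zero _).symm)
  have hiP : IsIso (adj.unit.app P) := DevissLib.isIso_unit_of_killed c hP
  refine Preadditive.epi_of_cancel_zero _ fun {Q} g hg => ?_
  let a : (Scheme.Modules.pullback c).obj M ⟶ (Scheme.Modules.pullback c).obj P :=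
    (Scheme.Modules.pullback c).map (Abelian.factorThruImage η)
  let ψ := (Scheme.Modules.pushforward c).map a ≫ inv (adj.unit.app P)
  have h0 : η ≫ ψ = Abelian.factorThruImage η := by
    show η ≫ _ ≫ _ = _
    rw [← Category.assoc, IsIso.comp_inv_eq]
    exact (adj.unit.naturality (Abelian.factorThruImage η)).symm
  obtain ⟨φ, hφ⟩ : ∃ φ, φ = ψ ≫ Abelian.image.ι η := ⟨_, rfl⟩
  have h1 : η ≫ φ = η := by rw [hφ, ← Category.assoc, h0, Abelian.image.fac]
  haveI : IsIso (adj.counit.app ((Scheme.Modules.pullback c).obj M)) := CycKSuppLib.isIso_counit c _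
  have hiT : IsIso (adj.unit.app ((Scheme.Modules.pushforward c).obj ((Scheme.Modules.pullback c).obj M))) :=
    DevissLib.isIso_unit_of_killed c hk
  have h2 : φ = 𝟙 _ := by
    haveI : ∀ G, IsIso (adj.counit.app G) := fun G => CycKSuppLib.isIso_counit c G
    haveI : IsIso adj.counit := NatIso.isIso_of_isIso_app _
    obtain ⟨φ', rfl⟩ := adj.fullyFaithfulROfIsIsoCounit.map_surjective φ
    have h3 : adj.homEquiv _ _ φ' = adj.homEquiv _ _ (𝟙 _) := by
      rw [adj.homEquiv_unit, adj.homEquiv_unit, CategoryTheory.Functor.map_id]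
      exact h1.trans (Category.comp_id η).symm
    rw [(adj.homEquiv _ _).injective h3, CategoryTheory.Functor.map_id]
  have h3 : Abelian.image.ι η ≫ g = 0 := by
    rw [← cancel_epi (Abelian.factorThruImage η), ← Category.assoc, Abelian.image.fac]
    exact hg.trans comp_zero.symm
  calc g = φ ≫ g := by rw [h2, Category.id_comp]
    _ = 0 := by rw [hφ, Category.assoc, h3, comp_zero]

/-- The unit of a closed immersion is surjective over affine opens. -/
theorem unit_app_surjective [Coh.IsQCoh M] {U : Y.Opens} (hU : IsAffineOpen U) :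
    Function.Surjective (((Scheme.Modules.pullbackPushforwardAdjunction c).unit.app M).app U) :=
  haveI := epi_unit c M
  haveI : Coh.IsQCoh ((𝟭 Y.Modules).obj M) := ‹Coh.IsQCoh M›
  haveI := KFlatLib.isQCoh_pullback c M
  haveI : Coh.IsQCoh ((Scheme.Modules.pullback c ⋙ Scheme.Modules.pushforward c).obj M) :=
    QCohLib.isQCoh_pushforward c _
  FormalCohLib.app_surjective_of_epi _ hU

end DefClassLib
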