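import Groth.Agent.DefClassLib.Nat
import Groth.Agent.DefGlueLib.Functor
import Groth.Agent.KiehlLib.ExtFin
import Groth.Agent.KiehlLib.RestrLift
import Groth.Agent.ArtLib.Tangent
import Mathlib.Algebra.Homology.DerivedCategory.SingleTriangle

/-!
# The class of a first order deformation on the square of a scheme
-/

set_option autoImplicit false
set_option maxHeartbeats 2000000
set_option linter.unusedSectionVars false
set_option backward.isDefEq.respectTransparency false

universe u

open CategoryTheory CategoryTheory.Limits AlgebraicGeometry TopologicalSpace Opposite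

attribute [local instance] HasDerivedCategory.standard

noncomputable section

namespace DefClassLib

open ArtFun

variable {k : Type u} [Field k] {X : Scheme.{u}} (x : X ⟶ Art.specPt k)

/-- `X ×_k X`. -/
abbrev sq : Scheme.{u} := pullback x x

instance overSq : (sq x).Over (Spec (CommRingCat.of k)) := ⟨pullback.snd x x ≫ x⟩

variable {x} {A A' : Art k k}

/-- The structure map to the point. -/
abbrev tk (ξ : DefSch (Λ := k) X x A) : ξ.total ⟶ Art.specPt k := ξ.f ≫ Art.specOver A

lemma i_tk (ξ : DefSch (Λ := k) X x A) : ξ.i ≫ tk ξ = x :=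
  ((Category.assoc _ _ _).symm.trans (congrArg (· ≫ Art.specOver A) ξ.i_f)).trans
    ((Category.assoc _ _ _).trans ((congrArg (x ≫ ·) (Art.specRes_comp (Art.ofBase A))).trans
      (Art.comp_specRes_base x)))

lemma dblI_fst_w (ξ : DefSch (Λ := k) X x A) :
    pullback.fst x x ≫ x = (pullback.snd x x ≫ ξ.i) ≫ tk ξ := by
  rw [pullback.condition, Category.assoc, i_tk]

/-- The inclusion of the square. -/
def dblI (ξ : DefSch (Λ := k) X x A) : sq x ⟶ pullback x (tk ξ) :=
  pullback.lift (pullback.fst x x) (pullback.snd x x ≫ ξ.i) (dblI_fst_w ξ)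

lemma isPullback_dblI (ξ : DefSch (Λ := k) X x A) :
    IsPullback (dblI ξ) (pullback.snd x x) (pullback.snd x (tk ξ)) ξ.i := by
  refine IsPullback.flip (IsPullback.of_bot (v₂₁ := pullback.fst x (tk ξ)) (h₃₁ := x) (v₂₂ := tk ξ)
    ?_ ?_ (IsPullback.of_hasPullback x (tk ξ)).flip)
  · rw [show dblI ξ ≫ pullback.fst x (tk ξ) = pullback.fst x x from pullback.lift_fst _ _ _, i_tk]
    exact (IsPullback.of_hasPullback x x).flip
  · exact (pullback.lift_snd _ _ _).symm

/-- The deformation `X ×_k ξ` of `X ×_k X`. -/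
def dbl (ξ : DefSch (Λ := k) X x A) : DefSch (Λ := k) (sq x) (sq x ↘ Spec (CommRingCat.of k)) A where
  total := pullback x (tk ξ)
  f := pullback.snd x (tk ξ) ≫ ξ.f
  flat := by
    haveI := DefGlueLib.flat_of_specPt x
    haveI : Flat ξ.f := ξ.flat
    exact MorphismProperty.comp_mem _ _ _ (MorphismProperty.pullback_snd (P := @Flat) _ _ inferInstance) inferInstance
  i := dblI ξ
  isPullback := (isPullback_dblI ξ).paste_vert ξ.isPullback

lemma dbl_i_fst (ξ : DefSch (Λ := k) X x A) :
    (dbl ξ).i ≫ pullback.fst x (tk ξ) = pullback.fst x x := pullback.lift_fst _ _ _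

lemma dbl_i_snd (ξ : DefSch (Λ := k) X x A) :
    (dbl ξ).i ≫ pullback.snd x (tk ξ) = pullback.snd x x ≫ ξ.i := pullback.lift_snd _ _ _

variable {ξ : DefSch (Λ := k) X x A} {ξ' : DefSch (Λ := k) X x A'} (μ : A ⟶ A') (q : ξ'.total ⟶ ξ.total)
  (hμ : q ≫ ξ.f = ξ'.f ≫ Art.specMap μ)

include hμ in
lemma q_tk : q ≫ tk ξ = tk ξ' :=
  ((Category.assoc _ _ _).symm.trans (congrArg (· ≫ Art.specOver A) hμ)).trans
    ((Category.assoc _ _ _).trans (congrArg (ξ'.f ≫ ·) (Art.specOver_comp μ)))

include hμ in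
lemma dblMap_w : pullback.fst x (tk ξ') ≫ x = (pullback.snd x (tk ξ') ≫ q) ≫ tk ξ := by
  rw [pullback.condition, Category.assoc, q_tk μ q hμ]

/-- The map between doubles. -/
def dblMap : (dbl ξ').total ⟶ (dbl ξ).total :=
  pullback.lift (pullback.fst x (tk ξ')) (pullback.snd x (tk ξ') ≫ q) (dblMap_w μ q hμ)

lemma dblMap_f : dblMap μ q hμ ≫ (dbl ξ).f = (dbl ξ').f ≫ Art.specMap μ := by
  show pullback.lift _ _ _ ≫ pullback.snd _ _ ≫ ξ.f = (pullback.snd _ _ ≫ ξ'.f) ≫ _
  rw [pullback.lift_snd_assoc, Category.assoc, Category.assoc, hμ]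

lemma i_dblMap (hq : ξ'.i ≫ q = ξ.i) : (dbl ξ').i ≫ dblMap μ q hμ = (dbl ξ).i := by
  apply pullback.hom_ext
  · rw [Category.assoc, dbl_i_fst, dblMap, pullback.lift_fst, dbl_i_fst]
  · rw [Category.assoc, dbl_i_snd, dblMap, pullback.lift_snd, reassoc_of% (dbl_i_snd ξ'), hq]

omit hμ

lemma dual_span {a : DualNumber k} (h : TrivSqZeroExt.fst a = 0) :
    (TrivSqZeroExt.inl (TrivSqZeroExt.snd a) : DualNumber k) * DualNumber.eps = a :=
  TrivSqZeroExt.ext (by simp [h]) (by simp)

lemma dual_indep {a : DualNumber k} (h : a * DualNumber.eps = 0) : TrivSqZeroExt.fst a = 0 := by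
  simpa using congrArg TrivSqZeroExt.snd h

lemma dual2_span {a : TrivSqZeroExt k (k × k)} (h : TrivSqZeroExt.fst a = 0) :
    (TrivSqZeroExt.inl (TrivSqZeroExt.snd a).1 : TrivSqZeroExt k (k × k)) * TrivSqZeroExt.inr (1, 0) +
      TrivSqZeroExt.inl (TrivSqZeroExt.snd a).2 * TrivSqZeroExt.inr (0, 1) = a :=
  TrivSqZeroExt.ext (by simp [h]) (Prod.ext (by simp) (by simp))

lemma dual2_indep {a b : TrivSqZeroExt k (k × k)}
    (h : a * TrivSqZeroExt.inr (1, 0) + b * TrivSqZeroExt.inr (0, 1) = 0) :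
    TrivSqZeroExt.fst a = 0 ∧ TrivSqZeroExt.fst b = 0 :=
  ⟨by simpa using congrArg (fun z => (TrivSqZeroExt.snd z).1) h,
    by simpa using congrArg (fun z => (TrivSqZeroExt.snd z).2) h⟩

lemma tsze_plus (z : k × k) :
    (Art.tszeMap (Λ := k) (LinearMap.fst k k k + LinearMap.snd k k k)) (TrivSqZeroExt.inr z) =
      (TrivSqZeroExt.inl (z.1 + z.2) : DualNumber k) * DualNumber.eps :=
  TrivSqZeroExt.ext (by simp) (by simp)

lemma tsze_pr₁ (z : k × k) :
    (Art.tszeMap (Λ := k) (LinearMap.fst k k k)) (TrivSqZeroExt.inr z) =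
      (TrivSqZeroExt.inl z.1 : DualNumber k) * DualNumber.eps :=
  TrivSqZeroExt.ext (by simp) (by simp)

lemma tsze_pr₂ (z : k × k) :
    (Art.tszeMap (Λ := k) (LinearMap.snd k k k)) (TrivSqZeroExt.inr z) =
      (TrivSqZeroExt.inl z.2 : DualNumber k) * DualNumber.eps :=
  TrivSqZeroExt.ext (by simp) (by simp)

lemma tsze_scale (c : k) :
    (Art.tszeMap (Λ := k) (c • LinearMap.id)) (DualNumber.eps : DualNumber k) =
      (TrivSqZeroExt.inl c : DualNumber k) * DualNumber.eps :=
  TrivSqZeroExt.ext (by simp) (by simp)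

/-- The frame of the dual numbers. -/
def frameDual : Frame (Art.dual k k) 1 where
  t _ := (DualNumber.eps : DualNumber k)
  mem _ := (Art.mem_maximalIdeal_iff (Art.dual k k) _).2 rfl
  span := fun a ha => Ideal.mem_span_range_iff_exists_fun.2
    ⟨fun _ => (TrivSqZeroExt.inl (TrivSqZeroExt.snd (a : DualNumber k)) : DualNumber k),
      (Fin.sum_univ_one _).trans (dual_span ((Art.mem_maximalIdeal_iff (Art.dual k k) a).1 ha))⟩
  indep := fun a h l => (Art.mem_maximalIdeal_iff (Art.dual k k) _).2 (by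
    rw [Subsingleton.elim l 0]
    exact dual_indep ((Fin.sum_univ_one _).symm.trans h))

/-- The frame of the double dual numbers. -/
def frameDual2 : Frame (Art.dual2 k k) 2 where
  t := ![(TrivSqZeroExt.inr ((1, 0) : k × k) : TrivSqZeroExt k (k × k)), TrivSqZeroExt.inr (0, 1)]
  mem l := (Art.mem_maximalIdeal_iff (Art.dual2 k k) _).2 (by fin_cases l <;> rfl)
  span := fun a ha => Ideal.mem_span_range_iff_exists_fun.2
    ⟨![(TrivSqZeroExt.inl (TrivSqZeroExt.snd (a : TrivSqZeroExt k (k × k))).1 : TrivSqZeroExt k (k × k)),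
        TrivSqZeroExt.inl (TrivSqZeroExt.snd (a : TrivSqZeroExt k (k × k))).2],
      (Fin.sum_univ_two _).trans (dual2_span ((Art.mem_maximalIdeal_iff (Art.dual2 k k) a).1 ha))⟩
  indep := fun a h l => (Art.mem_maximalIdeal_iff (Art.dual2 k k) _).2 (by
    have h' := dual2_indep ((Fin.sum_univ_two _).symm.trans h)
    fin_cases l
    exacts [h'.1, h'.2])

variable [IsSeparated x]

/-- The ideal of the diagonal, in the derived category. -/
abbrev srcD : DerivedCategory (sq x).Modules :=
  (DerivedCategory.singleFunctor (sq x).Modules 0).obj (idl (pullback.diagonal x))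

/-- The functor receiving the classes. -/
abbrev shF : (sq x).Modules ⥤ DerivedCategory (sq x).Modules :=
  DerivedCategory.singleFunctor (sq x).Modules 0 ⋙ shiftFunctor (DerivedCategory (sq x).Modules) (1 : ℤ)

/-- `Δ_* O_X [1]`. -/
abbrev tgtD : DerivedCategory (sq x).Modules := (shF (x := x)).obj (pO (pullback.diagonal x))

/-- The classes of a deformation. -/
def cls {A : Art k k} (ξ : DefSch (Λ := k) X x A) {n : ℕ} (φ : Frame A n) (l : Fin n) : srcD (x := x) ⟶ tgtD (x := x) :=
  (seq_shortExact (dbl ξ) (pullback.diagonal x) φ).singleδ ≫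
    (shF (x := x)).map (biproduct.π (fun _ : Fin n => pO (pullback.diagonal x)) l)

variable (x) in
lemma matMap_π {n n' : ℕ} (g : Fin n → Fin n' → k) (l' : Fin n') :
    matMap (pullback.diagonal x) g ≫ biproduct.π (fun _ : Fin n' => pO (pullback.diagonal x)) l' =
      ∑ l, g l l' • biproduct.π (fun _ : Fin n => pO (pullback.diagonal x)) l := by
  refine biproduct.hom_ext' _ _ fun l => ?_
  rw [matMap, biproduct.ι_desc_assoc, Preadditive.sum_comp, Preadditive.comp_sum, Finset.sum_eq_single l',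
    Finset.sum_eq_single l]
  · rw [Linear.smul_comp, Linear.comp_smul, biproduct.ι_π_self, biproduct.ι_π_self]
  · intro j _ hj
    rw [Linear.comp_smul, biproduct.ι_π_ne _ (Ne.symm hj), smul_zero]
  · intro h
    exact absurd (Finset.mem_univ l) h
  · intro j _ hj
    rw [Linear.smul_comp, biproduct.ι_π_ne _ hj, smul_zero]
  · intro h
    exact absurd (Finset.mem_univ l') h

/-- Naturality of the classes. -/
theorem cls_map {A A' : Art k k} {ξ : DefSch (Λ := k) X x A} {ξ' : DefSch (Λ := k) X x A'} (μ : A ⟶ A')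
    (q : ξ'.total ⟶ ξ.total) (hμ : q ≫ ξ.f = ξ'.f ≫ Art.specMap μ) (hq : ξ'.i ≫ q = ξ.i)
    {n n' : ℕ} (φ : Frame A n) (φ' : Frame A' n') (g : Fin n → Fin n' → k)
    (hg : ∀ l, μ.toAlgHom (φ.t l) = ∑ l', algebraMap k A' (g l l') * φ'.t l') (l' : Fin n') :
    cls ξ' φ' l' = ∑ l, g l l' • cls ξ φ l := by
  have h := (ShortComplex.ShortExact.singleTriangle.map (seq_shortExact (dbl ξ) (pullback.diagonal x) φ)
    (seq_shortExact (dbl ξ') (pullback.diagonal x) φ')
    (seqMap (dbl ξ) (dbl ξ') (pullback.diagonal x) (dblMap μ q hμ) (i_dblMap μ q hμ hq) μ (dblMap_f μ q hμ)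
      φ φ' g hg)).comm₃
  have h' : (seq_shortExact (dbl ξ) (pullback.diagonal x) φ).singleδ ≫
      (shF (x := x)).map (matMap (pullback.diagonal x) g) =
        (seq_shortExact (dbl ξ') (pullback.diagonal x) φ').singleδ := by
    refine h.trans ?_
    show (DerivedCategory.singleFunctor (sq x).Modules 0).map (𝟙 _) ≫ _ = _
    rw [CategoryTheory.Functor.map_id]
    exact Category.id_comp _
  rw [cls, ← h', Category.assoc, ← Functor.map_comp, matMap_π, Functor.map_sum, Preadditive.comp_sum]
  refine Finset.sum_congr rfl fun l _ => ?_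
  rw [Functor.map_smul, Linear.comp_smul]
  rfl

/-- The class of a first order deformation. -/
def cl1 (ξ : DefSch (Λ := k) X x (Art.dual k k)) : srcD (x := x) ⟶ tgtD (x := x) := cls ξ frameDual 0

lemma cl1_congr {ξ ξ' : DefSch (Λ := k) X x (Art.dual k k)} (h : Nonempty (ξ.Iso ξ')) : cl1 ξ = cl1 ξ' := by
  obtain ⟨e⟩ := h
  rw [cl1, cl1, cls_map (𝟙 (Art.dual k k)) e.iso.hom (by rw [Art.specMap_id, Category.comp_id]; exact e.hom_f)
    e.i_hom frameDual frameDual (fun _ _ => 1) (fun l => by
      rw [Fin.sum_univ_one, map_one, one_mul]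
      rfl), Fin.sum_univ_one, one_smul]

/-- The class on isomorphism classes. -/
def clQ : (defFunctor (Λ := k) X x).obj (Art.dual k k) → (srcD (x := x) ⟶ tgtD (x := x)) :=
  Quotient.lift cl1 fun _ _ h => cl1_congr h

lemma clQ_map {A : Art k k} (ξ : DefSch (Λ := k) X x A) (μ : A ⟶ Art.dual k k) {n : ℕ} (φ : Frame A n)
    (g : Fin n → k) (hg : ∀ l, μ.toAlgHom (φ.t l) = algebraMap k (Art.dual k k) (g l) * frameDual.t 0) :
    clQ ((defFunctor (Λ := k) X x).map μ ξ.cl) = ∑ l, g l • cls ξ φ l :=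
  cls_map μ (pullback.fst ξ.f (Art.specMap μ)) pullback.condition (DefSch.baseChange_i_fst ξ μ) φ frameDual
    (fun l _ => g l) (fun l => by rw [Fin.sum_univ_one]; exact hg l) 0

/-- The class as a linear map. -/
def clLin [TangentStr (defFunctor (Λ := k) X x)] :
    TangentSpace (defFunctor (Λ := k) X x) →ₗ[k] (srcD (x := x) ⟶ tgtD (x := x)) where
  toFun a := clQ a.val
  map_add' a b := by
    obtain ⟨z, ⟨h₁, h₂⟩, -⟩ :=
      ArtLib.exists_pair DefGlueLib.h0_defFunctor DefGlueLib.heps_defFunctor a.val b.val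
    have h := TangentStr.add_eq (F := defFunctor (Λ := k) X x) z
    rw [h₁, h₂] at h
    rw [show (a + b : TangentSpace (defFunctor (Λ := k) X x)).val = (defFunctor (Λ := k) X x).map Art.plus z from h,
      ← h₁, ← h₂]
    induction z using Quotient.inductionOn with
    | h ξ =>
      refine (clQ_map ξ Art.plus frameDual2 ![1, 1] ?_).trans ?_
      · intro l
        fin_cases l
        · exact (tsze_plus (1, 0)).trans (by simp; rfl)
        · exact (tsze_plus (0, 1)).trans (by simp; rfl)
      · rw [show ((defFunctor (Λ := k) X x).map Art.pr₁ ⟦ξ⟧) = (defFunctor (Λ := k) X x).map Art.pr₁ ξ.cl from rfl,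
          show ((defFunctor (Λ := k) X x).map Art.pr₂ ⟦ξ⟧) = (defFunctor (Λ := k) X x).map Art.pr₂ ξ.cl from rfl,
          clQ_map ξ Art.pr₁ frameDual2 ![1, 0] (by
            intro l
            fin_cases l
            · exact (tsze_pr₁ (1, 0)).trans rfl
            · exact (tsze_pr₁ (0, 1)).trans rfl),
          clQ_map ξ Art.pr₂ frameDual2 ![0, 1] (by
            intro l
            fin_cases l
            · exact (tsze_pr₂ (1, 0)).trans rfl
            · exact (tsze_pr₂ (0, 1)).trans rfl)]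
        simp [Fin.sum_univ_two]
  map_smul' c a := by
    rw [show (c • a : TangentSpace (defFunctor (Λ := k) X x)).val =
      (defFunctor (Λ := k) X x).map (Art.scale c) a.val from TangentStr.smul_eq c a.val, RingHom.id_apply]
    obtain ⟨ξ, hξ⟩ := Quotient.exists_rep a.val
    rw [← hξ]
    refine (clQ_map ξ (Art.scale c) frameDual (fun _ => c) ?_).trans ?_
    · intro l
      exact (tsze_scale c).trans rfl
    · rw [Fin.sum_univ_one]
      rfl

variable [IsProper x]

instance isProper_sq : IsProper (sq x ↘ Spec (CommRingCat.of k)) :=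
  MorphismProperty.comp_mem _ _ _ (MorphismProperty.pullback_snd (P := @IsProper) _ _ ‹_›) ‹_›

/-- The classes lie in a finite dimensional space. -/
theorem finite_hom : Module.Finite k (srcD (x := x) ⟶ tgtD (x := x)) := by
  haveI : IsLocallyNoetherian (sq x) :=
    LocallyOfFiniteType.isLocallyNoetherian (sq x ↘ Spec (CommRingCat.of k))
  haveI : IsLocallyNoetherian X := LocallyOfFiniteType.isLocallyNoetherian x
  have h1 : DCoh.IsCohD (srcD (x := x)) := KiehlLib.isCohD_single_noeth 0 (isCoh_idl (pullback.diagonal x))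
  have h0 : DCoh.IsCohD ((DerivedCategory.singleFunctor (sq x).Modules 0).obj (pO (pullback.diagonal x))) :=
    KiehlLib.isCohD_single_noeth 0
      (QCohLib.isCoh_push_finite (pullback.diagonal x) _ (DevissLib.isCoh_structureModule X))
  have h2 : DCoh.IsCohD (tgtD (x := x)) := fun i => QCohLib.isCoh_of_iso
    (((DerivedCategory.homologyFunctor (sq x).Modules 0).shiftIso 1 i (i + 1) (by omega)).app _).symm (h0 (i + 1))
  haveI : (tgtD (x := x)).IsGE (-1) :=
    DerivedCategory.TStructure.t.isGE_shift ((DerivedCategory.singleFunctor (sq x).Modules 0).obj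
      (pO (pullback.diagonal x))) 0 1 (-1) (by omega)
  exact KiehlLib.finite_hom_of_proper (srcD (x := x)) (tgtD (x := x)) h1 0 h2 (-1)

end DefClassLib
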