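import Groth.Agent.DefClassLib.Seq
import Groth.Prelude.Def_KLin
import Mathlib.CategoryTheory.Limits.Preserves.Shapes.Kernels

/-!
# Naturality of the extension in the deformation
-/

set_option autoImplicit false
set_option maxHeartbeats 2000000
set_option linter.unusedSectionVars false
set_option backward.isDefEq.respectTransparency false

universe u

open CategoryTheory CategoryTheory.Limits AlgebraicGeometry TopologicalSpace Opposite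
open DefGlueLib (up preimage_up up_mono)

noncomputable section

namespace DefClassLib

open ArtFun

variable {k : Type u} [Field k] {X Y : Scheme.{u}} [Y.Over (Spec (CommRingCat.of k))] {A A' : Art k k}
  (ξ : DefSch (Λ := k) Y (Y ↘ Spec (CommRingCat.of k)) A) (ξ' : DefSch (Λ := k) Y (Y ↘ Spec (CommRingCat.of k)) A')
  (Δ : X ⟶ Y) [IsClosedImmersion Δ] (q : ξ'.total ⟶ ξ.total) (hq : ξ'.i ≫ q = ξ.i)

include hq in
lemma lift_zero :
    (idlι (Δ ≫ ξ.i) ≫ ClSub.unitToPush q) ≫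
      (Scheme.Modules.pushforward q).map (ClSub.unitToPush (Δ ≫ ξ'.i)) = 0 := hom_ext_affines fun W a => by
  show (Δ ≫ ξ'.i).app (q ⁻¹ᵁ W.1) (q.app W.1 (val (Δ ≫ ξ.i) a)) = 0
  refine (congr($(Scheme.Hom.comp_app (Δ ≫ ξ'.i) q W.1) (val (Δ ≫ ξ.i) a))).symm.trans ?_
  rw [Scheme.Hom.congr_app (show (Δ ≫ ξ'.i) ≫ q = Δ ≫ ξ.i by rw [Category.assoc, hq]) W.1]
  show (X.presheaf.map _).hom ((Δ ≫ ξ.i).app W.1 (val (Δ ≫ ξ.i) a)) = 0
  rw [app_val, map_zero]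

/-- The map of ideals. -/
def idlMap : idl (Δ ≫ ξ.i) ⟶ (Scheme.Modules.pushforward q).obj (idl (Δ ≫ ξ'.i)) :=
  haveI := (Scheme.Modules.pullbackPushforwardAdjunction q).rightAdjoint_preservesLimits
  kernel.lift _ (idlι (Δ ≫ ξ.i) ≫ ClSub.unitToPush q) (lift_zero ξ ξ' Δ q hq) ≫
    (PreservesKernel.iso (Scheme.Modules.pushforward q) (ClSub.unitToPush (Δ ≫ ξ'.i))).inv

lemma idlMap_ι : idlMap ξ ξ' Δ q hq ≫ (Scheme.Modules.pushforward q).map (idlι (Δ ≫ ξ'.i)) =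
    idlι (Δ ≫ ξ.i) ≫ ClSub.unitToPush q := by
  haveI := (Scheme.Modules.pullbackPushforwardAdjunction q).rightAdjoint_preservesLimits
  rw [idlMap, Category.assoc,
    show (PreservesKernel.iso (Scheme.Modules.pushforward q) (ClSub.unitToPush (Δ ≫ ξ'.i))).inv ≫
      (Scheme.Modules.pushforward q).map (idlι (Δ ≫ ξ'.i)) = kernel.ι _ by
        rw [Iso.inv_comp_eq, PreservesKernel.iso_hom, kernelComparison_comp_ι]]
  exact kernel.lift_ι _ _ _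

lemma val_idlMap {W : ξ.total.Opens} (a : Γ(idl (Δ ≫ ξ.i), W)) :
    val (Δ ≫ ξ'.i) (W := q ⁻¹ᵁ W) ((idlMap ξ ξ' Δ q hq).app W a) = q.app W (val (Δ ≫ ξ.i) a) :=
  congr(Scheme.Modules.Hom.app $(idlMap_ι ξ ξ' Δ q hq) W a)

/-- The adjoint of the map of restrictions. -/
def nuAdj : idl (Δ ≫ ξ.i) ⟶ (Scheme.Modules.pushforward ξ.i).obj (M ξ' Δ) :=
  idlMap ξ ξ' Δ q hq ≫ (Scheme.Modules.pushforward q).map (unitη ξ' Δ) ≫
    (Scheme.Modules.pushforwardComp ξ'.i q).hom.app (M ξ' Δ) ≫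
      (Scheme.Modules.pushforwardCongr hq).hom.app (M ξ' Δ)

/-- The map of restrictions. -/
def nu : M ξ Δ ⟶ M ξ' Δ :=
  ((Scheme.Modules.pullbackPushforwardAdjunction ξ.i).homEquiv _ _).symm (nuAdj ξ ξ' Δ q hq)

lemma unit_nu : unitη ξ Δ ≫ (Scheme.Modules.pushforward ξ.i).map (nu ξ ξ' Δ q hq) = nuAdj ξ ξ' Δ q hq := by
  have := (Scheme.Modules.pullbackPushforwardAdjunction ξ.i).homEquiv_unit (idl (Δ ≫ ξ.i)) _ (nu ξ ξ' Δ q hq)
  rw [nu, Equiv.apply_symm_apply] at this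
  exact this.symm

include hq in
lemma preimage_eq (V : Y.Opens) : q ⁻¹ᵁ up ξ V = up ξ' V := DefGlueLib.preimage_up_of_comp ξ q hq V

/-- The map on functions. -/
def pf (V : Y.Opens) : Γ(ξ.total, up ξ V) ⟶ Γ(ξ'.total, up ξ' V) :=
  q.appLE (up ξ V) (up ξ' V) (preimage_eq ξ ξ' q hq V).ge

lemma rd_pf (V : Y.Opens) (r : Γ(ξ.total, up ξ V)) : rd ξ' V (pf ξ ξ' q hq V r) = rd ξ V r := by
  have e : pf ξ ξ' q hq V ≫ rd ξ' V = rd ξ V := by
    rw [pf, rd, rd, Scheme.Hom.appLE_comp_appLE]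
    simp only [hq]
  exact congr($e r)

/-- The map on sections of the ideals. -/
def pI (V : Y.Opens) (a : Γ(idl (Δ ≫ ξ.i), up ξ V)) : Γ(idl (Δ ≫ ξ'.i), up ξ' V) :=
  (idl (Δ ≫ ξ'.i)).presheaf.map (homOfLE (preimage_eq ξ ξ' q hq V).ge).op
    ((idlMap ξ ξ' Δ q hq).app (up ξ V) a)

lemma val_pI (V : Y.Opens) (a : Γ(idl (Δ ≫ ξ.i), up ξ V)) :
    val (Δ ≫ ξ'.i) (pI ξ ξ' Δ q hq V a) = pf ξ ξ' q hq V (val (Δ ≫ ξ.i) a) := by
  refine (QCohLib.app_map (idlι (Δ ≫ ξ'.i)) (homOfLE (preimage_eq ξ ξ' q hq V).ge) _).trans ?_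
  show ξ'.total.presheaf.map _ (val (Δ ≫ ξ'.i) (W := q ⁻¹ᵁ up ξ V) _) = _
  rw [val_idlMap]
  rfl

lemma nu_eta (V : Y.Opens) (a : Γ(idl (Δ ≫ ξ.i), up ξ V)) :
    (nu ξ ξ' Δ q hq).app V (eta ξ Δ V a) = eta ξ' Δ V (pI ξ ξ' Δ q hq V a) := by
  rw [eta, QCohLib.app_map (nu ξ ξ' Δ q hq) (homOfLE (preimage_up ξ V).ge),
    show (nu ξ ξ' Δ q hq).app (ξ.i ⁻¹ᵁ up ξ V) ((unitη ξ Δ).app (up ξ V) a) = _ from
      congr(Scheme.Modules.Hom.app $(unit_nu ξ ξ' Δ q hq) (up ξ V) a),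
    eta, pI, QCohLib.app_map (unitη ξ' Δ) (homOfLE (preimage_eq ξ ξ' q hq V).ge)]
  refine Eq.trans ?_ (QCohLib.map_map' (M ξ' Δ) (homOfLE (preimage_up ξ' V).ge)
    ((Opens.map ξ'.i.base).map (homOfLE (preimage_eq ξ ξ' q hq V).ge)) _).symm
  exact QCohLib.map_map' (M ξ' Δ) _ _ _

lemma nu_toI : nu ξ ξ' Δ q hq ≫ toI ξ' Δ = toI ξ Δ := hom_ext_affines fun V m => by
  obtain ⟨a, rfl⟩ := eta_surjective ξ Δ V m
  refine val_injective Δ ?_
  show val Δ ((toI ξ' Δ).app V.1 ((nu ξ ξ' Δ q hq).app V.1 (eta ξ Δ V.1 a))) = _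
  rw [nu_eta, val_toI, val_toI, toO_eta, toO_eta, val_pI, rd_pf]

variable (μ : A ⟶ A') (hμ : q ≫ ξ.f = ξ'.f ≫ Art.specMap μ)

include hμ in
lemma pf_tsec (a : A) (V : Y.affineOpens) :
    pf ξ ξ' q hq V.1 (tsec ξ a (up ξ V.1)) = tsec ξ' (μ.toAlgHom a) (up ξ' V.1) := by
  rw [tsec_str, tsec_str]
  exact congr($(DefGlueLib.str_mapS μ q hq hμ V) a)

lemma map_toGlobal (c : k) (V : Y.affineOpens) :
    Y.presheaf.map (homOfLE (le_top : V.1 ≤ ⊤)).op (Coh.toGlobal (Y ↘ Spec (CommRingCat.of k)) c) =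
      (DefGlueLib.str₀ (x := Y ↘ Spec (CommRingCat.of k)) V).hom c := by
  have e : (Scheme.ΓSpecIso (CommRingCat.of k)).inv ≫ (Y ↘ Spec (CommRingCat.of k)).appLE ⊤ V.1 le_top =
      DefGlueLib.str₀ (x := Y ↘ Spec (CommRingCat.of k)) V := by
    refine Spec.map_injective ?_
    rw [DefGlueLib.str₀, Spec.map_preimage, Spec.map_comp,
      ← IsAffineOpen.SpecMap_appLE_fromSpec (Y ↘ Spec (CommRingCat.of k))
        (isAffineOpen_top (Spec (CommRingCat.of k))) V.2 le_top, IsAffineOpen.fromSpec_top, Scheme.isoSpec_Spec_inv]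
  exact congr($e c)

lemma rd_tsec_const (c : k) (V : Y.affineOpens) :
    rd ξ' V.1 (tsec ξ' (algebraMap k A' c) (up ξ' V.1)) =
      Y.presheaf.map (homOfLE (le_top : V.1 ≤ ⊤)).op (Coh.toGlobal (Y ↘ Spec (CommRingCat.of k)) c) := by
  rw [rd_affine, tsec_str, map_toGlobal]
  refine (congr($(DefGlueLib.str_rdS ξ' V) (algebraMap k A' c))).trans ?_
  show (DefGlueLib.str₀ (x := Y ↘ Spec (CommRingCat.of k)) V).hom (A'.res (algebraMap k A' c)) = _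
  rw [A'.res.commutes]
  rfl

variable {n n' : ℕ} (φ : Frame A n) (φ' : Frame A' n') (g : Fin n → Fin n' → k)
  (hg : ∀ l, μ.toAlgHom (φ.t l) = ∑ l', algebraMap k A' (g l l') * φ'.t l')

include hμ hg in
lemma fromX_nu (l : Fin n) : fromX ξ Δ φ l ≫ nu ξ ξ' Δ q hq = ∑ l', g l l' • fromX ξ' Δ φ' l' := by
  haveI := QuotSchLib.epi_unitToPush Δ
  rw [← cancel_epi (ClSub.unitToPush Δ), ← Category.assoc, unit_fromX, Preadditive.comp_sum]
  refine hom_ext_affines fun V b => ?_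
  obtain ⟨r, hr⟩ := DefGlueLib.rdS_surjective ξ V (show Γ(Y, V.1) from b)
  show (nu ξ ξ' Δ q hq).app V.1 ((fromO ξ Δ φ l).app V.1 b) = _
  rw [← hr, ← rd_affine, fromO_rd, nu_eta, app_sum]
  have hz : pI ξ ξ' Δ q hq V.1 (r • sLoc ξ Δ φ l V.1) =
      ∑ l', (tsec ξ' (algebraMap k A' (g l l')) (up ξ' V.1) * pf ξ ξ' q hq V.1 r) • sLoc ξ' Δ φ' l' V.1 :=
    val_injective _ (by
      rw [val_pI, val_smul, val_sum, map_mul, val_sLoc, pf_tsec ξ ξ' q hq μ hμ, hg, tsec_str, map_sum,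
        Finset.mul_sum]
      refine Finset.sum_congr rfl fun l' _ => ?_
      rw [val_smul, val_sLoc, tsec_str, tsec_str, map_mul]
      ring)
  rw [hz, eta_sum]
  refine Finset.sum_congr rfl fun l' _ => ?_
  rw [Linear.comp_smul, KLin.smul_app_apply, unit_fromX, ← rd_pf ξ ξ' q hq V.1 r, fromO_rd, eta_smul, eta_smul,
    map_mul, rd_tsec_const, mul_smul]

/-- The map of kernels. -/
def matMap : TX Δ n ⟶ TX Δ n' :=
  biproduct.desc fun l => ∑ l', g l l' • biproduct.ι (fun _ : Fin n' => pO Δ) l'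

/-- The morphism of extensions. -/
def seqMap : seq ξ Δ φ ⟶ seq ξ' Δ φ' where
  τ₁ := matMap Δ g
  τ₂ := nu ξ ξ' Δ q hq
  τ₃ := 𝟙 _
  comm₁₂ := by
    refine biproduct.hom_ext' _ _ fun l => ?_
    show biproduct.ι _ l ≫ matMap Δ g ≫ biproduct.desc (fromX ξ' Δ φ') =
      biproduct.ι _ l ≫ biproduct.desc (fromX ξ Δ φ) ≫ nu ξ ξ' Δ q hq
    rw [biproduct.ι_desc_assoc, fromX_nu ξ ξ' Δ q hq μ hμ φ φ' g hg l, matMap, biproduct.ι_desc_assoc,
      Preadditive.sum_comp]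
    refine Finset.sum_congr rfl fun l' _ => ?_
    rw [Linear.smul_comp, biproduct.ι_desc]
  comm₂₃ := by
    show nu ξ ξ' Δ q hq ≫ toI ξ' Δ = toI ξ Δ ≫ 𝟙 _
    rw [nu_toI, Category.comp_id]

end DefClassLib
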