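import Groth.Agent.DefClassLib.Retr
import Groth.Agent.DefGlueLib.Hfin

/-!
# The tangent space of the deformations of a proper scheme is finite dimensional
-/

set_option autoImplicit false
set_option maxHeartbeats 1000000
set_option linter.unusedSectionVars false
set_option backward.isDefEq.respectTransparency false

universe u

open CategoryTheory CategoryTheory.Limits AlgebraicGeometry

attribute [local instance] HasDerivedCategory.standard

noncomputable section

namespace DefClassLib

open ArtFun DefGlueLib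

variable {Λ k : Type u} [CommRing Λ] [Field k] [Algebra Λ k] {X : Scheme.{u}} {x : X ⟶ Art.specPt k}

theorem finite_tangent_self [IsProper x] [TangentStr (defFunctor (Λ := k) X x)] :
    Module.Finite k (TangentSpace (defFunctor (Λ := k) X x)) :=
  haveI := finite_hom (x := x)
  Module.Finite.of_injective (clLin (x := x)) clLin_injective

/-- A deformation over `Λ` as one over `k`. -/
def toSelf (a : (defFunctor (Λ := Λ) X x).obj (Art.dual Λ k)) : (defFunctor (Λ := k) X x).obj (Art.dual k k) :=
  convCl (CategoryTheory.Iso.refl X) (Category.id_comp x) (sameDual (Λ := Λ)) a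

/-- A deformation over `Λ` as one over `k`, two parameters. -/
def toSelf2 (a : (defFunctor (Λ := Λ) X x).obj (Art.dual2 Λ k)) : (defFunctor (Λ := k) X x).obj (Art.dual2 k k) :=
  convCl (CategoryTheory.Iso.refl X) (Category.id_comp x) (sameDual2 (Λ := Λ)) a

lemma toSelf_injective : Function.Injective (toSelf (Λ := Λ) (x := x)) := convCl_injective _ _ _

lemma toSelf_pr₁ (z : (defFunctor (Λ := Λ) X x).obj (Art.dual2 Λ k)) :
    toSelf ((defFunctor (Λ := Λ) X x).map Art.pr₁ z) = (defFunctor (Λ := k) X x).map Art.pr₁ (toSelf2 z) :=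
  convCl_map (A := Art.dual2 Λ k) (B := Art.dual Λ k) (A' := Art.dual2 k k) (B' := Art.dual k k)
    (CategoryTheory.Iso.refl X) (Category.id_comp x) (sameDual2 (Λ := Λ)) (sameDual (Λ := Λ)) (Art.pr₁ : Art.dual2 Λ k ⟶ _)
    (Art.pr₁ : Art.dual2 k k ⟶ _) ((Category.comp_id _).trans (Category.id_comp _).symm) z

lemma toSelf_pr₂ (z : (defFunctor (Λ := Λ) X x).obj (Art.dual2 Λ k)) :
    toSelf ((defFunctor (Λ := Λ) X x).map Art.pr₂ z) = (defFunctor (Λ := k) X x).map Art.pr₂ (toSelf2 z) :=
  convCl_map (A := Art.dual2 Λ k) (B := Art.dual Λ k) (A' := Art.dual2 k k) (B' := Art.dual k k)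
    (CategoryTheory.Iso.refl X) (Category.id_comp x) (sameDual2 (Λ := Λ)) (sameDual (Λ := Λ)) (Art.pr₂ : Art.dual2 Λ k ⟶ _)
    (Art.pr₂ : Art.dual2 k k ⟶ _) ((Category.comp_id _).trans (Category.id_comp _).symm) z

lemma toSelf_plus (z : (defFunctor (Λ := Λ) X x).obj (Art.dual2 Λ k)) :
    toSelf ((defFunctor (Λ := Λ) X x).map Art.plus z) = (defFunctor (Λ := k) X x).map Art.plus (toSelf2 z) :=
  convCl_map (A := Art.dual2 Λ k) (B := Art.dual Λ k) (A' := Art.dual2 k k) (B' := Art.dual k k)
    (CategoryTheory.Iso.refl X) (Category.id_comp x) (sameDual2 (Λ := Λ)) (sameDual (Λ := Λ)) (Art.plus : Art.dual2 Λ k ⟶ _)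
    (Art.plus : Art.dual2 k k ⟶ _) ((Category.comp_id _).trans (Category.id_comp _).symm) z

lemma toSelf_scale (t : k) (a : (defFunctor (Λ := Λ) X x).obj (Art.dual Λ k)) :
    toSelf ((defFunctor (Λ := Λ) X x).map (Art.scale t) a) = (defFunctor (Λ := k) X x).map (Art.scale t) (toSelf a) :=
  convCl_map (A := Art.dual Λ k) (B := Art.dual Λ k) (A' := Art.dual k k) (B' := Art.dual k k)
    (CategoryTheory.Iso.refl X) (Category.id_comp x) (sameDual (Λ := Λ)) (sameDual (Λ := Λ)) (Art.scale t : Art.dual Λ k ⟶ _)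
    (Art.scale t : Art.dual k k ⟶ _) ((Category.comp_id _).trans (Category.id_comp _).symm) a

variable [TangentStr (defFunctor (Λ := Λ) X x)] [TangentStr (defFunctor (Λ := k) X x)]

/-- Comparison of tangent spaces. -/
def toSelfLin : TangentSpace (defFunctor (Λ := Λ) X x) →ₗ[k] TangentSpace (defFunctor (Λ := k) X x) where
  toFun a := TangentSpace.mk (toSelf a.val)
  map_add' a b := by
    obtain ⟨z, ⟨h₁, h₂⟩, -⟩ := ArtLib.exists_pair h0_defFunctor heps_defFunctor a.val b.val
    have h := TangentStr.add_eq (F := defFunctor (Λ := Λ) X x) z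
    have h' := TangentStr.add_eq (F := defFunctor (Λ := k) X x) (toSelf2 z)
    rw [h₁, h₂] at h
    rw [← toSelf_pr₁, ← toSelf_pr₂, ← toSelf_plus, h₁, h₂] at h'
    show toSelf (a + b : TangentSpace (defFunctor (Λ := Λ) X x)).val = _
    exact (congrArg toSelf h).trans h'.symm
  map_smul' t a := by
    show toSelf (t • a : TangentSpace (defFunctor (Λ := Λ) X x)).val = _
    exact (congrArg toSelf (TangentStr.smul_eq t a.val)).trans ((toSelf_scale t a.val).trans
      (TangentStr.smul_eq (F := defFunctor (Λ := k) X x) t (toSelf a.val)).symm)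

omit [TangentStr (defFunctor (Λ := k) X x)] in
/-- **The tangent space of a proper scheme's deformations is finite dimensional.** -/
theorem hfin_of_isProper [IsProper x] : Hfin (defFunctor (Λ := Λ) X x) := by
  obtain ⟨T⟩ := ArtLib.nonempty_tangentStr (h0_defFunctor (Λ := k) (x := x)) heps_defFunctor
  haveI := finite_tangent_self (x := x)
  exact Module.Finite.of_injective (toSelfLin (Λ := Λ) (x := x)) fun a b h => toSelf_injective (Λ := Λ) (x := x) h

end DefClassLib
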