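import Groth.Agent.DefClassLib.Class
import Mathlib.AlgebraicGeometry.Sites.SmallAffineZariski

/-!
# Deformations with trivial class are trivial
-/

set_option autoImplicit false
set_option maxHeartbeats 2000000
set_option linter.unusedSectionVars false
set_option backward.isDefEq.respectTransparency false

universe u

open CategoryTheory CategoryTheory.Limits AlgebraicGeometry TopologicalSpace Opposite
open DefGlueLib (up preimage_up up_mono up_preimage Aff sec str rdS)

attribute [local instance] HasDerivedCategory.standard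

noncomputable section

namespace DefClassLib

open ArtFun

variable {k : Type u} [Field k] {X : Scheme.{u}} {x : X ⟶ Art.specPt k} [IsSeparated x]
  (ξ : DefSch (Λ := k) X x (Art.dual k k))

/-- A vanishing class splits the extension. -/
theorem exists_retraction (h : cl1 ξ = 0) :
    ∃ r : M (dbl ξ) (pullback.diagonal x) ⟶ pO (pullback.diagonal x),
      fromX (dbl ξ) (pullback.diagonal x) frameDual 0 ≫ r = 𝟙 _ := by
  let π := biproduct.π (fun _ : Fin 1 => pO (pullback.diagonal x)) 0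
  let ι := biproduct.ι (fun _ : Fin 1 => pO (pullback.diagonal x)) 0
  have hπι : π ≫ ι = 𝟙 _ := by
    have e := biproduct.total (f := fun _ : Fin 1 => pO (pullback.diagonal x))
    rwa [Fin.sum_univ_one] at e
  have hδ : (seq_shortExact (dbl ξ) (pullback.diagonal x) frameDual).singleδ = 0 := by
    have h2 : ((seq_shortExact (dbl ξ) (pullback.diagonal x) frameDual).singleδ ≫ (shF (x := x)).map π) ≫
        (shF (x := x)).map ι = 0 := (congrArg (· ≫ _) h).trans zero_comp
    have e : (shF (x := x)).map π ≫ (shF (x := x)).map ι = 𝟙 _ :=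
      ((shF (x := x)).map_comp π ι).symm.trans ((congrArg (shF (x := x)).map hπι).trans ((shF (x := x)).map_id _))
    exact ((Category.comp_id _).symm.trans (congrArg (_ ≫ ·) e.symm)).trans ((Category.assoc _ _ _).symm.trans h2)
  obtain ⟨g, hg⟩ := Pretriangulated.Triangle.yoneda_exact₂ _
    (Pretriangulated.inv_rot_of_distTriang _
      (seq_shortExact (dbl ξ) (pullback.diagonal x) frameDual).singleTriangle_distinguished)
    (𝟙 _) (by
      simp [Pretriangulated.Triangle.invRotate, ShortComplex.ShortExact.singleTriangle, hδ])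
  obtain ⟨g', rfl⟩ := (DerivedCategory.singleFunctor (sq x).Modules 0).map_surjective g
  have hr : biproduct.desc (fromX (dbl ξ) (pullback.diagonal x) frameDual) ≫ g' = 𝟙 _ := by
    refine (DerivedCategory.singleFunctor (sq x).Modules 0).map_injective ?_
    rw [Functor.map_comp, CategoryTheory.Functor.map_id]
    exact hg.symm
  refine ⟨g' ≫ π, ?_⟩
  have h3 := congrArg (fun t => ι ≫ t ≫ π) hr
  simp only [ι, π, biproduct.ι_desc_assoc, Category.assoc, Category.id_comp, biproduct.ι_π_self] at h3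
  exact h3

/-- The open of the square over an open. -/
abbrev sqU (U : X.Opens) : (sq x).Opens := (pullback.fst x x ⁻¹ᵁ U) ⊓ (pullback.snd x x ⁻¹ᵁ U)

omit [IsSeparated x] in
lemma le_diag (U : X.Opens) : U ≤ pullback.diagonal x ⁻¹ᵁ sqU (x := x) U := by
  intro a ha
  refine ⟨?_, ?_⟩
  · show pullback.fst x x (pullback.diagonal x a) ∈ U
    rw [← Scheme.Hom.comp_apply, pullback.diagonal_fst]
    exact ha
  · show pullback.snd x x (pullback.diagonal x a) ∈ U
    rw [← Scheme.Hom.comp_apply, pullback.diagonal_snd]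
    exact ha

omit [IsSeparated x] in
lemma diag_le (U : X.Opens) : pullback.diagonal x ⁻¹ᵁ sqU (x := x) U ≤ U := by
  intro a ha
  have h : pullback.fst x x (pullback.diagonal x a) ∈ U := ha.1
  rwa [← Scheme.Hom.comp_apply, pullback.diagonal_fst] at h

omit [IsSeparated x] in
lemma up_le_fst (U : X.Opens) : up (dbl ξ) (sqU (x := x) U) ≤ pullback.fst x (tk ξ) ⁻¹ᵁ U := by
  refine le_of_le_of_eq (up_mono _ ?_) (up_preimage (dbl ξ) _)
  intro a ha
  show ((dbl ξ).i ≫ pullback.fst x (tk ξ)) a ∈ U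
  rw [dbl_i_fst]
  exact ha.1

omit [IsSeparated x] in
lemma up_le_snd (U : X.Opens) : up (dbl ξ) (sqU (x := x) U) ≤ pullback.snd x (tk ξ) ⁻¹ᵁ up ξ U := by
  refine le_of_le_of_eq (up_mono _ ?_) (up_preimage (dbl ξ) _)
  intro a ha
  show ((dbl ξ).i ≫ pullback.snd x (tk ξ)) a ∈ up ξ U
  rw [dbl_i_snd]
  show ξ.i (pullback.snd x x a) ∈ up ξ U
  exact (preimage_up ξ U).ge ha.2

/-- Pull back of functions along the first projection. -/
def P₁ (U : Aff X) : Γ(X, U.1) ⟶ Γ((dbl ξ).total, up (dbl ξ) (sqU (x := x) U.1)) :=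
  (pullback.fst x (tk ξ)).appLE U.1 _ (up_le_fst ξ U.1)

/-- Pull back of functions along the second projection. -/
def P₂ (U : Aff X) : sec ξ U ⟶ Γ((dbl ξ).total, up (dbl ξ) (sqU (x := x) U.1)) :=
  (pullback.snd x (tk ξ)).appLE (up ξ U.1) _ (up_le_snd ξ U.1)

/-- Restriction from the open to the preimage in the diagonal. -/
abbrev toD (U : Aff X) : Γ(X, U.1) ⟶ Γ(X, pullback.diagonal x ⁻¹ᵁ sqU (x := x) U.1) :=
  X.presheaf.map (homOfLE (diag_le (x := x) U.1)).op

lemma toD_bijective (U : Aff X) : Function.Bijective (toD (x := x) U) := by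
  have h : pullback.diagonal x ⁻¹ᵁ sqU (x := x) U.1 = U.1 := le_antisymm (diag_le U.1) (le_diag U.1)
  have : IsIso (toD (x := x) U) := by
    have e : homOfLE (diag_le (x := x) U.1) = eqToHom h := Subsingleton.elim _ _
    rw [toD, e]
    infer_instance
  exact ConcreteCategory.bijective_of_isIso _

lemma diag_P₁ (U : Aff X) (b : Γ(X, U.1)) :
    (pullback.diagonal x).app _ (rd (dbl ξ) _ (P₁ ξ U b)) = toD (x := x) U b := by
  have e : P₁ ξ U ≫ rd (dbl ξ) _ ≫ (pullback.diagonal x).app _ = toD (x := x) U := by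
    rw [P₁, rd, Scheme.Hom.app_eq_appLE, Scheme.Hom.appLE_comp_appLE, Scheme.Hom.appLE_comp_appLE]
    simp only [Category.assoc, dbl_i_fst, pullback.diagonal_fst]
    simp [Scheme.Hom.appLE]
  exact congr($e b)

lemma diag_P₂ (U : Aff X) (b : sec ξ U) :
    (pullback.diagonal x).app _ (rd (dbl ξ) _ (P₂ ξ U b)) = toD (x := x) U (rdS ξ U b) := by
  have e : P₂ ξ U ≫ rd (dbl ξ) _ ≫ (pullback.diagonal x).app _ = rdS ξ U ≫ toD (x := x) U := by
    rw [P₂, rd, Scheme.Hom.app_eq_appLE, Scheme.Hom.appLE_comp_appLE, Scheme.Hom.appLE_comp_appLE]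
    simp only [Category.assoc, dbl_i_snd, pullback.diagonal_snd_assoc]
    rw [toD, rdS, Scheme.Hom.appLE_map]
  exact congr($e b)

/-- The difference of the two lifts. -/
def zFun (U : Aff X) (b : sec ξ U) : Γ((dbl ξ).total, up (dbl ξ) (sqU (x := x) U.1)) :=
  P₂ ξ U b - P₁ ξ U (rdS ξ U b)

lemma zFun_mem (U : Aff X) (b : sec ξ U) :
    (pullback.diagonal x ≫ (dbl ξ).i).app (up (dbl ξ) (sqU (x := x) U.1)) (zFun ξ U b) = 0 :=
  app_comp_eq_zero (dbl ξ) (pullback.diagonal x) (by
    rw [zFun, map_sub, map_sub, diag_P₁, diag_P₂, sub_self])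

/-- The difference as a section of the ideal. -/
def zI (U : Aff X) (b : sec ξ U) :
    Γ(idl (pullback.diagonal x ≫ (dbl ξ).i), up (dbl ξ) (sqU (x := x) U.1)) :=
  mkI _ (zFun ξ U b) (zFun_mem ξ U b)

variable (r : M (dbl ξ) (pullback.diagonal x) ⟶ pO (pullback.diagonal x))

/-- The obstruction to lifting a function. -/
def ev (U : Aff X) (b : sec ξ U) : Γ(X, pullback.diagonal x ⁻¹ᵁ sqU (x := x) U.1) :=
  r.app _ (eta (dbl ξ) (pullback.diagonal x) _ (zI ξ U b))

lemma ev_smul (U : Aff X) (a : Γ((dbl ξ).total, up (dbl ξ) (sqU (x := x) U.1)))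
    (j : Γ(idl (pullback.diagonal x ≫ (dbl ξ).i), up (dbl ξ) (sqU (x := x) U.1))) :
    (show Γ(X, pullback.diagonal x ⁻¹ᵁ sqU (x := x) U.1) from
      r.app _ (eta (dbl ξ) (pullback.diagonal x) _ (a • j))) =
      (pullback.diagonal x).app _ (rd (dbl ξ) _ a) *
        (show Γ(X, pullback.diagonal x ⁻¹ᵁ sqU (x := x) U.1) from
          r.app _ (eta (dbl ξ) (pullback.diagonal x) _ j)) := by
  rw [eta_smul, QCohLib.app_smul]
  rfl

lemma ev_add (U : Aff X) (a b : sec ξ U) : ev ξ r U (a + b) = ev ξ r U a + ev ξ r U b := by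
  have h : zI ξ U (a + b) = zI ξ U a + zI ξ U b := val_injective _ (by
    rw [val_add, zI, zI, zI, val_mkI, val_mkI, val_mkI, zFun, zFun, zFun, map_add, map_add, map_add]
    abel)
  rw [ev, h, eta_add]
  exact map_add (r.app _).hom _ _

lemma ev_mul (U : Aff X) (a b : sec ξ U) : ev ξ r U (a * b) =
    toD (x := x) U (rdS ξ U a) * ev ξ r U b + toD (x := x) U (rdS ξ U b) * ev ξ r U a := by
  have h : zI ξ U (a * b) = P₂ ξ U a • zI ξ U b + P₁ ξ U (rdS ξ U b) • zI ξ U a := val_injective _ (by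
    rw [val_add, val_smul, val_smul, zI, zI, zI, val_mkI, val_mkI, val_mkI, zFun, zFun, zFun, map_mul, map_mul,
      map_mul]
    ring)
  rw [ev, h, eta_add]
  refine (map_add (r.app _).hom _ _).trans ?_
  refine congrArg₂ (· + ·) ((ev_smul ξ r U _ _).trans ?_) ((ev_smul ξ r U _ _).trans ?_)
  · rw [diag_P₂]
    rfl
  · rw [diag_P₁]
    rfl

lemma ev_one (U : Aff X) : ev ξ r U 1 = 0 := by
  have h := ev_mul ξ r U 1 1
  rw [one_mul, map_one, map_one, one_mul] at h
  simpa using h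

lemma str₀_fromSpec (U : Aff X) :
    Spec.map (DefGlueLib.str₀ (x := x) U) = U.2.fromSpec ≫ x := Spec.map_preimage _

lemma P₂_str (U : Aff X) (a : Art.dual k k) :
    P₂ ξ U (str ξ U a) = tsec (dbl ξ) a (up (dbl ξ) (sqU (x := x) U.1)) := by
  rw [← tsec_str, tsec, tsec]
  have e : ξ.total.presheaf.map (homOfLE (le_top : up ξ U.1 ≤ ⊤)).op ≫ P₂ ξ U =
      (pullback.snd x (tk ξ)).appTop ≫
        (dbl ξ).total.presheaf.map (homOfLE (le_top : up (dbl ξ) (sqU (x := x) U.1) ≤ ⊤)).op := by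
    rw [P₂, Scheme.Hom.map_appLE]
    rfl
  refine (congr($e (glob ξ a))).trans ?_
  show (dbl ξ).total.presheaf.map _ ((pullback.snd x (tk ξ)).appTop (glob ξ a)) = _
  refine congrArg _ ?_
  show (pullback.snd x (tk ξ)).appTop (ξ.f.appTop ((Scheme.ΓSpecIso _).inv a)) = _
  exact (congr($(Scheme.Hom.comp_appTop (pullback.snd x (tk ξ)) ξ.f) ((Scheme.ΓSpecIso _).inv a))).symm

lemma toTop_tk (U : Aff X) (c : k) :
    str ξ U (algebraMap k (Art.dual k k) c) =
      (Spec.preimage ((DefGlueLib.isAffineOpen_up ξ U.2).fromSpec ≫ tk ξ)).hom c := by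
  have e : Spec.preimage ((DefGlueLib.isAffineOpen_up ξ U.2).fromSpec ≫ tk ξ) =
      CommRingCat.ofHom (algebraMap k (Art.dual k k)) ≫ str ξ U := by
    refine Spec.map_injective ?_
    rw [Spec.map_preimage, Spec.map_comp, DefGlueLib.Spec_str, Category.assoc]
    rfl
  exact (congr($e c)).symm

lemma ev_const (U : Aff X) (c : k) : ev ξ r U (str ξ U (algebraMap k (Art.dual k k) c)) = 0 := by
  have hz : zI ξ U (str ξ U (algebraMap k (Art.dual k k) c)) = 0 := by
    refine val_injective _ ?_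
    rw [zI, val_mkI, val_zero, zFun, sub_eq_zero]
    have h1 : rdS ξ U (str ξ U (algebraMap k (Art.dual k k) c)) = DefGlueLib.str₀ (x := x) U c := by
      refine (congr($(DefGlueLib.str_rdS ξ U) (algebraMap k (Art.dual k k) c))).trans ?_
      show (DefGlueLib.str₀ (x := x) U).hom ((Art.dual k k).res (algebraMap k (Art.dual k k) c)) = _
      rw [(Art.dual k k).res.commutes]
      rfl
    rw [h1, toTop_tk]
    have e₁ : DefGlueLib.str₀ (x := x) U =
        (Scheme.ΓSpecIso (CommRingCat.of k)).inv ≫ x.appLE ⊤ U.1 le_top := by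
      refine Spec.map_injective ?_
      rw [str₀_fromSpec, Spec.map_comp, ← IsAffineOpen.SpecMap_appLE_fromSpec x
        (isAffineOpen_top (Spec (CommRingCat.of k))) U.2 le_top, IsAffineOpen.fromSpec_top,
        Scheme.isoSpec_Spec_inv]
    have e₂ : Spec.preimage ((DefGlueLib.isAffineOpen_up ξ U.2).fromSpec ≫ tk ξ) =
        (Scheme.ΓSpecIso (CommRingCat.of k)).inv ≫ (tk ξ).appLE ⊤ (up ξ U.1) le_top := by
      refine Spec.map_injective ?_
      rw [Spec.map_preimage, Spec.map_comp, ← IsAffineOpen.SpecMap_appLE_fromSpec (tk ξ)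
        (isAffineOpen_top (Spec (CommRingCat.of k))) (DefGlueLib.isAffineOpen_up ξ U.2) le_top,
        IsAffineOpen.fromSpec_top, Scheme.isoSpec_Spec_inv]
    have e : (tk ξ).appLE ⊤ (up ξ U.1) le_top ≫ P₂ ξ U = x.appLE ⊤ U.1 le_top ≫ P₁ ξ U := by
      rw [P₁, P₂, Scheme.Hom.appLE_comp_appLE, Scheme.Hom.appLE_comp_appLE]
      simp only [pullback.condition]
    rw [e₁, e₂]
    exact congr($e ((Scheme.ΓSpecIso (CommRingCat.of k)).inv c))
  rw [ev, hz, eta, map_zero, map_zero]
  exact map_zero (r.app _).hom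

variable (hr : fromX (dbl ξ) (pullback.diagonal x) frameDual 0 ≫ r = 𝟙 _)

lemma rdS_eps (U : Aff X) : rdS ξ U (str ξ U ((frameDual (k := k)).t 0)) = 0 := by
  rw [← rd_affine, ← tsec_str]
  exact rd_tsec ξ _ (frameDual.mem 0) U

include hr in
lemma ev_eps (U : Aff X) (b : sec ξ U) :
    ev ξ r U (str ξ U (frameDual.t 0) * b) = toD (x := x) U (rdS ξ U b) := by
  have h : zI ξ U (str ξ U (frameDual.t 0) * b) =
      P₂ ξ U b • sLoc (dbl ξ) (pullback.diagonal x) frameDual 0 _ := val_injective _ (by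
    rw [val_smul, val_sLoc, zI, val_mkI, zFun, map_mul, map_mul, rdS_eps, zero_mul, map_zero, sub_zero, P₂_str,
      mul_comm])
  rw [ev, h, ← fromX_app, ← diag_P₂]
  exact congr(Scheme.Modules.Hom.app $hr _ ((pullback.diagonal x).app _ (rd (dbl ξ) _ (P₂ ξ U b))))

/-- The functions lifting canonically. -/
def liftRing (U : Aff X) : Subring (sec ξ U) where
  carrier := {b | ev ξ r U b = 0}
  one_mem' := ev_one ξ r U
  mul_mem' {a b} ha hb := by
    show ev ξ r U (a * b) = 0
    rw [ev_mul, show ev ξ r U a = 0 from ha, show ev ξ r U b = 0 from hb, mul_zero, mul_zero, add_zero]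
  zero_mem' := by
    have h := ev_add ξ r U 0 0
    rw [add_zero] at h
    simpa using h
  add_mem' {a b} ha hb := by
    show ev ξ r U (a + b) = 0
    rw [ev_add, show ev ξ r U a = 0 from ha, show ev ξ r U b = 0 from hb, add_zero]
  neg_mem' {a} ha := by
    show ev ξ r U (-a) = 0
    have h := ev_add ξ r U a (-a)
    have h0 := ev_add ξ r U (0 : sec ξ U) 0
    rw [add_zero] at h0
    rw [add_neg_cancel, show ev ξ r U a = 0 from ha, zero_add] at h
    rw [← h]
    simpa using h0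

include hr in
lemma liftRing_bijective (U : Aff X) :
    Function.Bijective ((rdS ξ U).hom.comp (liftRing ξ r U).subtype) := by
  have hev : ∀ b : sec ξ U, rdS ξ U b = 0 →
      ∃ c, b = str ξ U (frameDual.t 0) * c ∧ ev ξ r U b = toD (x := x) U (rdS ξ U c) := by
    intro b hb
    have h1 := Ideal.map_mono frameDual.span (DefGlueLib.rdS_ker ξ U hb)
    rw [Ideal.map_span, ← Set.range_comp] at h1
    obtain ⟨c, hc⟩ := Ideal.mem_span_range_iff_exists_fun.1 h1
    have e : b = str ξ U (frameDual.t 0) * c 0 := by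
      rw [← hc, Fin.sum_univ_one, mul_comm]
      rfl
    exact ⟨c 0, e, by rw [e]; exact ev_eps ξ r hr U _⟩
  constructor
  · refine (injective_iff_map_eq_zero _).2 fun ⟨b, hb⟩ h => ?_
    obtain ⟨c, hc, he⟩ := hev b h
    have hc0 : rdS ξ U c = 0 := (toD_bijective U).1 ((he.symm.trans hb).trans (map_zero (toD (x := x) U).hom).symm)
    obtain ⟨d, hd, -⟩ := hev c hc0
    refine Subtype.ext ?_
    show b = 0
    rw [hc, hd, ← mul_assoc, ← map_mul]
    refine mul_eq_zero_of_left ((congrArg (str ξ U).hom ?_).trans (map_zero _)) _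
    show (DualNumber.eps : DualNumber k) * DualNumber.eps = 0
    exact DualNumber.eps_mul_eps
  · intro a
    obtain ⟨b, hb⟩ := DefGlueLib.rdS_surjective ξ U a
    obtain ⟨e, he⟩ := (toD_bijective U).2 (ev ξ r U b)
    obtain ⟨c, hc⟩ := DefGlueLib.rdS_surjective ξ U e
    refine ⟨⟨b + str ξ U (frameDual.t 0) * -c, ?_⟩, ?_⟩
    · show ev ξ r U _ = 0
      rw [ev_add, ev_eps ξ r hr, map_neg, map_neg, hc, he, add_neg_cancel]
    · show rdS ξ U (b + str ξ U (frameDual.t 0) * -c) = a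
      rw [map_add, map_mul, rdS_eps, zero_mul, add_zero]
      exact hb

/-- The canonical lift of functions. -/
def phi (U : Aff X) : Γ(X, U.1) ⟶ sec ξ U :=
  CommRingCat.ofHom ((liftRing ξ r U).subtype.comp
    (RingEquiv.ofBijective _ (liftRing_bijective ξ r hr U)).symm.toRingHom)

lemma ev_phi (U : Aff X) (a : Γ(X, U.1)) : ev ξ r U (phi ξ r hr U a) = 0 :=
  ((RingEquiv.ofBijective _ (liftRing_bijective ξ r hr U)).symm a).2

lemma rdS_phi (U : Aff X) (a : Γ(X, U.1)) : rdS ξ U (phi ξ r hr U a) = a :=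
  (RingEquiv.ofBijective _ (liftRing_bijective ξ r hr U)).apply_symm_apply a

lemma phi_unique (U : Aff X) {a : Γ(X, U.1)} {b : sec ξ U} (h : ev ξ r U b = 0) (h' : rdS ξ U b = a) :
    phi ξ r hr U a = b :=
  congrArg Subtype.val ((liftRing_bijective ξ r hr U).1
    (a₁ := ⟨phi ξ r hr U a, ev_phi ξ r hr U a⟩) (a₂ := ⟨b, h⟩) ((rdS_phi ξ r hr U a).trans h'.symm))

omit [IsSeparated x] in
lemma sqU_mono {U U' : X.Opens} (h : U' ≤ U) : sqU (x := x) U' ≤ sqU (x := x) U :=
  inf_le_inf ((pullback.fst x x).preimage_mono h) ((pullback.snd x x).preimage_mono h)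

lemma zI_res {U U' : Aff X} (h : U'.1 ≤ U.1) (b : sec ξ U) :
    zI ξ U' (DefGlueLib.res ξ h b) = (idl (pullback.diagonal x ≫ (dbl ξ).i)).presheaf.map
      (homOfLE (up_mono (dbl ξ) (sqU_mono (x := x) h))).op (zI ξ U b) := by
  refine val_injective _ ?_
  rw [val_map, zI, zI, val_mkI, val_mkI, zFun, zFun, map_sub]
  have e1 : DefGlueLib.res ξ h ≫ P₂ ξ U' =
      P₂ ξ U ≫ (dbl ξ).total.presheaf.map (homOfLE (up_mono (dbl ξ) (sqU_mono (x := x) h))).op := by
    rw [P₂, P₂, DefGlueLib.res, Scheme.Hom.map_appLE]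
    exact (Scheme.Hom.appLE_map _ _ _).symm
  have e2 : DefGlueLib.res ξ h ≫ rdS ξ U' ≫ P₁ ξ U' =
      rdS ξ U ≫ P₁ ξ U ≫ (dbl ξ).total.presheaf.map (homOfLE (up_mono (dbl ξ) (sqU_mono (x := x) h))).op := by
    rw [reassoc_of% (DefGlueLib.res_rdS ξ h), P₁, P₁, Scheme.Hom.map_appLE]
    exact congrArg (rdS ξ U ≫ ·) (Scheme.Hom.appLE_map _ _ _).symm
  exact congrArg₂ (· - ·) (congr($e1 b)) (congr($e2 b))

lemma phi_res {U U' : Aff X} (h : U'.1 ≤ U.1) :
    phi ξ r hr U ≫ DefGlueLib.res ξ h = X.presheaf.map (homOfLE h).op ≫ phi ξ r hr U' := by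
  ext a
  refine (phi_unique ξ r hr U' ?_ ?_).symm
  · show ev ξ r U' (DefGlueLib.res ξ h (phi ξ r hr U a)) = 0
    rw [ev, zI_res ξ h, ← map_eta _ _ (sqU_mono (x := x) h), QCohLib.app_map r (homOfLE (sqU_mono (x := x) h))]
    rw [show r.app _ (eta (dbl ξ) (pullback.diagonal x) _ (zI ξ U (phi ξ r hr U a))) = 0 from ev_phi ξ r hr U a]
    exact map_zero _
  · refine (congr($(DefGlueLib.res_rdS ξ h) (phi ξ r hr U a))).trans ?_
    exact congrArg (X.presheaf.map _).hom (rdS_phi ξ r hr U a)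

lemma phi_str₀ (U : Aff X) :
    DefGlueLib.str₀ (x := x) U ≫ phi ξ r hr U = CommRingCat.ofHom (algebraMap k (Art.dual k k)) ≫ str ξ U := by
  ext c
  refine phi_unique ξ r hr U (ev_const ξ r U c) ?_
  refine (congr($(DefGlueLib.str_rdS ξ U) (algebraMap k (Art.dual k k) c))).trans ?_
  show (DefGlueLib.str₀ (x := x) U).hom ((Art.dual k k).res (algebraMap k (Art.dual k k) c)) = _
  rw [(Art.dual k k).res.commutes]
  rfl

/-- The open of the closed fibre under an affine open of the deformation. -/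
abbrev down (V : ξ.total.AffineZariskiSite) : Aff X := ⟨ξ.i ⁻¹ᵁ V.1, V.2.preimage ξ.i⟩

/-- The leg of the retraction over an affine open. -/
def leg (V : ξ.total.AffineZariskiSite) : Spec Γ(ξ.total, V.1) ⟶ X :=
  Spec.map (phi ξ r hr (down ξ V) ≫ ξ.total.presheaf.map (homOfLE (up_preimage ξ V.1).ge).op) ≫
    (down ξ V).2.fromSpec

lemma leg_map {V V' : ξ.total.AffineZariskiSite} (h : V ≤ V') :
    Spec.map (ξ.total.presheaf.map (homOfLE (Scheme.AffineZariskiSite.toOpens_mono h)).op) ≫ leg ξ r hr V' =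
      leg ξ r hr V := by
  have h' : (down ξ V).1 ≤ (down ξ V').1 := ξ.i.preimage_mono (Scheme.AffineZariskiSite.toOpens_mono h)
  rw [leg, leg, ← Spec.map_comp_assoc, ← IsAffineOpen.map_fromSpec (down ξ V').2 (down ξ V).2 (homOfLE h').op,
    ← Spec.map_comp_assoc]
  congr 2
  rw [← reassoc_of% (phi_res ξ r hr h'), DefGlueLib.res, ← Functor.map_comp, Category.assoc, ← Functor.map_comp]
  rfl

/-- The retraction. -/
def rho : ξ.total ⟶ X :=
  (Scheme.AffineZariskiSite.isColimitCocone ξ.total).desc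
    { pt := X
      ι :=
        { app := fun V => leg ξ r hr V
          naturality := fun V V' h => (leg_map ξ r hr h.le).trans (Category.comp_id _).symm } }

lemma fromSpec_rho (V : ξ.total.AffineZariskiSite) : V.2.fromSpec ≫ rho ξ r hr = leg ξ r hr V :=
  (Scheme.AffineZariskiSite.isColimitCocone ξ.total).fac _ V

lemma up_fromSpec_rho (U : Aff X) :
    (DefGlueLib.isAffineOpen_up ξ U.2).fromSpec ≫ rho ξ r hr = Spec.map (phi ξ r hr U) ≫ U.2.fromSpec := by
  let V : ξ.total.AffineZariskiSite := ⟨up ξ U.1, DefGlueLib.isAffineOpen_up ξ U.2⟩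
  refine (fromSpec_rho ξ r hr V).trans ?_
  have h : U.1 ≤ (down ξ V).1 := (preimage_up ξ U.1).ge
  rw [leg, ← IsAffineOpen.map_fromSpec (down ξ V).2 U.2 (homOfLE h).op, ← Spec.map_comp_assoc]
  congr 2
  rw [← phi_res ξ r hr h]
  rfl

lemma i_rho : ξ.i ≫ rho ξ r hr = 𝟙 X := by
  refine (Scheme.AffineZariskiSite.isColimitCocone X).hom_ext fun U => ?_
  show U.2.fromSpec ≫ ξ.i ≫ rho ξ r hr = U.2.fromSpec ≫ 𝟙 X
  rw [← IsAffineOpen.SpecMap_appLE_fromSpec_assoc ξ.i (DefGlueLib.isAffineOpen_up ξ U.2) U.2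
    (preimage_up ξ U.1).ge, up_fromSpec_rho ξ r hr ⟨U.1, U.2⟩, ← Spec.map_comp_assoc]
  have e : phi ξ r hr ⟨U.1, U.2⟩ ≫ ξ.i.appLE (up ξ U.1) U.1 (preimage_up ξ U.1).ge = 𝟙 _ := by
    ext a
    exact rdS_phi ξ r hr ⟨U.1, U.2⟩ a
  rw [e, Spec.map_id, Category.id_comp, Category.comp_id]

lemma rho_x : rho ξ r hr ≫ x = tk ξ := by
  refine DefGlueLib.hom_ext ξ fun U => ?_
  rw [← Category.assoc, up_fromSpec_rho, Category.assoc, ← str₀_fromSpec (x := x) U, ← Spec.map_comp, phi_str₀,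
    Spec.map_comp, DefGlueLib.Spec_str, Category.assoc]
  rfl

/-- The trivial first order deformation. -/
abbrev triv₁ : DefSch (Λ := k) X x (Art.dual k k) :=
  DefSch.trivial X x (DefGlueLib.flat_of_specPt x) (Art.dual k k)

/-- A deformation with vanishing class is trivial. -/
theorem cl_eq_triv (h : cl1 ξ = 0) : ξ.cl = (triv₁ (x := x)).cl := by
  obtain ⟨r, hr⟩ := exists_retraction ξ h
  refine Quotient.sound ⟨DefGlueLib.isoOfHom ξ (ξ' := triv₁) (pullback.lift (rho ξ r hr) ξ.f (rho_x ξ r hr))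
    (pullback.lift_snd _ _ _) ?_⟩
  apply pullback.hom_ext
  · rw [Category.assoc]
    exact (congrArg (ξ.i ≫ ·) (pullback.lift_fst _ _ _)).trans
      ((i_rho ξ r hr).trans (DefSch.baseChange_i_fst (DefSch.self (Λ := k) X x (DefGlueLib.flat_of_specPt x))
        (Art.ofBase (Art.dual k k))).symm)
  · rw [Category.assoc]
    exact (congrArg (ξ.i ≫ ·) (pullback.lift_snd _ _ _)).trans (ξ.i_f.trans (DefSch.baseChange_i_f
      (DefSch.self (Λ := k) X x (DefGlueLib.flat_of_specPt x)) (Art.ofBase (Art.dual k k))).symm)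

/-- The class determines the deformation. -/
theorem clLin_injective [TangentStr (defFunctor (Λ := k) X x)] : Function.Injective (clLin (x := x)) := by
  have key : ∀ a, clLin (x := x) a = 0 → a.val = (triv₁ (x := x)).cl := fun a ha => by
    obtain ⟨ξ, hξ⟩ := Quotient.exists_rep a.val
    have h' : clQ (ξ.cl) = 0 := by
      rw [show ξ.cl = a.val from hξ]
      exact ha
    exact hξ.symm.trans (cl_eq_triv ξ h')
  exact (injective_iff_map_eq_zero _).2 fun a ha =>
    (key a ha).trans (key 0 (map_zero _)).symm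

end DefClassLib
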