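import Groth.Agent.DefClassLib.Basic
import Groth.Agent.DefGlueLib.Sec
import Mathlib.RingTheory.Flat.EquationalCriterion
import Mathlib.CategoryTheory.Abelian.Basic

/-!
# The extension attached to a deformation and a closed subscheme

For a deformation `ξ` of `Y` over `A` with square-zero maximal ideal spanned by independent `t` and a closed
subscheme `Δ : X ⟶ Y`, the restriction `M` to `Y` of the ideal of `X` in `ξ.total` is an extension of the
ideal of `X` in `Y` by `⨁ Δ_* O_X`.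
-/

set_option autoImplicit false
set_option maxHeartbeats 2000000
set_option linter.unusedSectionVars false
set_option backward.isDefEq.respectTransparency false

universe u

open CategoryTheory CategoryTheory.Limits AlgebraicGeometry TopologicalSpace Opposite
open DefGlueLib (up preimage_up up_mono)

noncomputable section

namespace DefClassLib

open ArtFun

variable {k : Type u} [Field k] {X Y : Scheme.{u}} {y : Y ⟶ Art.specPt k} {A : Art k k}

/-- The sum of morphisms on sections. -/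
lemma app_sum {Z : Scheme.{u}} {M N : Z.Modules} {ι : Type*} (s : Finset ι) (φ : ι → (M ⟶ N)) (V : Z.Opens)
    (m : Γ(M, V)) : (∑ l ∈ s, φ l).app V m = ∑ l ∈ s, (φ l).app V m :=
  map_sum (AddMonoidHom.mk' (fun ψ : M ⟶ N => ψ.app V m) fun _ _ => rfl) φ s

/-- A frame of the maximal ideal. -/
structure Frame (A : Art k k) (n : ℕ) where
  /-- the elements -/
  t : Fin n → A
  mem : ∀ l, t l ∈ IsLocalRing.maximalIdeal A
  span : IsLocalRing.maximalIdeal A ≤ Ideal.span (Set.range t)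
  indep : ∀ a : Fin n → A, ∑ l, a l * t l = 0 → ∀ l, a l ∈ IsLocalRing.maximalIdeal A

variable (ξ : DefSch (Λ := k) Y y A) (Δ : X ⟶ Y)

/-- Reduction of sections. -/
def rd (V : Y.Opens) : Γ(ξ.total, up ξ V) ⟶ Γ(Y, V) := ξ.i.appLE (up ξ V) V (preimage_up ξ V).ge

lemma rd_affine (V : Y.affineOpens) : rd ξ V.1 = DefGlueLib.rdS ξ V := rfl

lemma map_rd {V V' : Y.Opens} (h : V' ≤ V) (r : Γ(ξ.total, up ξ V)) :
    rd ξ V' (ξ.total.presheaf.map (homOfLE (up_mono ξ h)).op r) = Y.presheaf.map (homOfLE h).op (rd ξ V r) := by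
  have e : ξ.total.presheaf.map (homOfLE (up_mono ξ h)).op ≫ rd ξ V' = rd ξ V ≫ Y.presheaf.map (homOfLE h).op := by
    rw [rd, rd, Scheme.Hom.map_appLE, Scheme.Hom.appLE_map]
  exact congr($e r)

lemma app_eq_zero_of_rd {V : Y.Opens} {r : Γ(ξ.total, up ξ V)} (h : rd ξ V r = 0) : ξ.i.app (up ξ V) r = 0 := by
  have e : rd ξ V ≫ Y.presheaf.map (homOfLE (preimage_up ξ V).le).op = ξ.i.app (up ξ V) := by
    rw [rd, Scheme.Hom.appLE_map, Scheme.Hom.app_eq_appLE]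
  exact (congr($e r)).symm.trans ((congrArg (Y.presheaf.map _).hom h).trans (map_zero (Y.presheaf.map _).hom))

lemma app_comp_eq {V : Y.Opens} (r : Γ(ξ.total, up ξ V)) :
    Δ.app V (rd ξ V r) = X.presheaf.map (homOfLE (congrArg (Δ ⁻¹ᵁ ·) (preimage_up ξ V)).ge).op
      ((Δ ≫ ξ.i).app (up ξ V) r) := by
  have e : rd ξ V ≫ Δ.app V = (Δ ≫ ξ.i).app (up ξ V) ≫
      X.presheaf.map (homOfLE (congrArg (Δ ⁻¹ᵁ ·) (preimage_up ξ V)).ge).op := by
    rw [rd, Scheme.Hom.app_eq_appLE, Scheme.Hom.appLE_comp_appLE, Scheme.Hom.app_eq_appLE, Scheme.Hom.appLE_map]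
  exact congr($e r)

lemma app_comp_eq_zero {V : Y.Opens} {r : Γ(ξ.total, up ξ V)} (h : Δ.app V (rd ξ V r) = 0) :
    (Δ ≫ ξ.i).app (up ξ V) r = 0 := by
  have e : (Δ ≫ ξ.i).app (up ξ V) = rd ξ V ≫ Δ.app V ≫
      X.presheaf.map (homOfLE (congrArg (Δ ⁻¹ᵁ ·) (preimage_up ξ V)).le).op := by
    rw [rd, Scheme.Hom.app_eq_appLE, Scheme.Hom.app_eq_appLE, Scheme.Hom.appLE_comp_appLE_assoc,
      Scheme.Hom.appLE_map]
    rfl
  exact (congr($e r)).trans ((congrArg (X.presheaf.map _).hom h).trans (map_zero (X.presheaf.map _).hom))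

/-- An element of the base ring as a function on the deformation. -/
def glob : A →+* Γ(ξ.total, (⊤ : ξ.total.Opens)) :=
  ((Scheme.ΓSpecIso (CommRingCat.of A)).inv ≫ ξ.f.appTop).hom

/-- An element of the base ring over an open. -/
def tsec (a : A) (W : ξ.total.Opens) : Γ(ξ.total, W) :=
  ξ.total.presheaf.map (homOfLE (le_top : W ≤ ⊤)).op (glob ξ a)

lemma map_tsec (a : A) {W W' : ξ.total.Opens} (h : W' ≤ W) :
    ξ.total.presheaf.map (homOfLE h).op (tsec ξ a W) = tsec ξ a W' := by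
  rw [tsec, tsec, ← CommRingCat.comp_apply, ← Functor.map_comp]
  rfl

lemma tsec_str (a : A) (V : Y.affineOpens) : tsec ξ a (up ξ V.1) = DefGlueLib.str ξ V a := by
  have e : (Scheme.ΓSpecIso (CommRingCat.of A)).inv ≫ ξ.f.appLE ⊤ (up ξ V.1) le_top = DefGlueLib.str ξ V := by
    refine Spec.map_injective ?_
    rw [DefGlueLib.Spec_str, Spec.map_comp,
      ← IsAffineOpen.SpecMap_appLE_fromSpec ξ.f (isAffineOpen_top (Spec (CommRingCat.of A)))
        (DefGlueLib.isAffineOpen_up ξ V.2) le_top, IsAffineOpen.fromSpec_top, Scheme.isoSpec_Spec_inv]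
  exact congr($e a)

lemma rd_tsec (a : A) (ha : a ∈ IsLocalRing.maximalIdeal A) (V : Y.affineOpens) :
    rd ξ V.1 (tsec ξ a (up ξ V.1)) = 0 := by
  rw [rd_affine, tsec_str]
  refine (congr($(DefGlueLib.str_rdS ξ V) a)).trans ?_
  show (DefGlueLib.str₀ (x := y) V).hom (A.res a) = 0
  rw [(Art.mem_maximalIdeal_iff A a).1 ha, map_zero]

lemma app_glob (a : A) (ha : a ∈ IsLocalRing.maximalIdeal A) : (Δ ≫ ξ.i).app ⊤ (glob ξ a) = 0 := by
  have e : ξ.f.appTop ≫ (Δ ≫ ξ.i).appTop = (Art.specRes A).appTop ≫ (Δ ≫ y).appTop := by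
    rw [← Scheme.Hom.comp_appTop, ← Scheme.Hom.comp_appTop, Category.assoc, Category.assoc, ξ.i_f]
  refine (congr($e ((Scheme.ΓSpecIso (CommRingCat.of A)).inv a))).trans ?_
  show (Δ ≫ y).appTop ((Art.specRes A).appTop ((Scheme.ΓSpecIso (CommRingCat.of A)).inv a)) = 0
  have e2 : (Scheme.ΓSpecIso (CommRingCat.of A)).inv ≫ (Art.specRes A).appTop =
      CommRingCat.ofHom A.res.toRingHom ≫ (Scheme.ΓSpecIso (CommRingCat.of k)).inv :=
    (Scheme.ΓSpecIso_inv_naturality _).symm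
  rw [show (Art.specRes A).appTop ((Scheme.ΓSpecIso (CommRingCat.of A)).inv a) =
    (Scheme.ΓSpecIso (CommRingCat.of k)).inv (A.res a) from congr($e2 a),
    (Art.mem_maximalIdeal_iff A a).1 ha, map_zero, map_zero]

variable [IsClosedImmersion Δ]

/-- The restriction to `Y` of the ideal of `X` in the deformation. -/
def M : Y.Modules := (Scheme.Modules.pullback ξ.i).obj (idl (Δ ≫ ξ.i))

lemma isQCoh_M : Coh.IsQCoh (M ξ Δ) :=
  haveI := isQCoh_idl (Δ ≫ ξ.i)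
  KFlatLib.isQCoh_pullback _ _

lemma isCoh_M [IsLocallyNoetherian ξ.total] : Coh.IsCoh (M ξ Δ) :=
  ConsLib.isCoh_pullback _ (isCoh_idl _)

/-- The unit of the restriction. -/
def unitη : idl (Δ ≫ ξ.i) ⟶ (Scheme.Modules.pushforward ξ.i).obj (M ξ Δ) :=
  (Scheme.Modules.pullbackPushforwardAdjunction ξ.i).unit.app (idl (Δ ≫ ξ.i))

/-- Restriction of a section. -/
def eta (V : Y.Opens) (a : Γ(idl (Δ ≫ ξ.i), up ξ V)) : Γ(M ξ Δ, V) :=
  (M ξ Δ).presheaf.map (homOfLE (preimage_up ξ V).ge).op ((unitη ξ Δ).app (up ξ V) a)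

lemma eta_add (V : Y.Opens) (a b : Γ(idl (Δ ≫ ξ.i), up ξ V)) :
    eta ξ Δ V (a + b) = eta ξ Δ V a + eta ξ Δ V b := by
  rw [eta, eta, eta, map_add, map_add]

/-- Restriction of sections as an additive map. -/
def etaHom (V : Y.Opens) : Γ(idl (Δ ≫ ξ.i), up ξ V) →+ Γ(M ξ Δ, V) :=
  AddMonoidHom.mk' (eta ξ Δ V) (eta_add ξ Δ V)

lemma eta_sum (V : Y.Opens) {ι : Type*} (s : Finset ι) (a : ι → Γ(idl (Δ ≫ ξ.i), up ξ V)) :
    eta ξ Δ V (∑ l ∈ s, a l) = ∑ l ∈ s, eta ξ Δ V (a l) :=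
  map_sum (etaHom ξ Δ V) a s

lemma eta_smul (V : Y.Opens) (r : Γ(ξ.total, up ξ V)) (a : Γ(idl (Δ ≫ ξ.i), up ξ V)) :
    eta ξ Δ V (r • a) = rd ξ V r • eta ξ Δ V a := by
  rw [eta, eta, QCohLib.app_smul]
  refine (QCohLib.map_smul' (M ξ Δ) (homOfLE (preimage_up ξ V).ge) (ξ.i.app (up ξ V) r) _).trans ?_
  congr 1

lemma map_eta {V V' : Y.Opens} (h : V' ≤ V) (a : Γ(idl (Δ ≫ ξ.i), up ξ V)) :
    (M ξ Δ).presheaf.map (homOfLE h).op (eta ξ Δ V a) =
      eta ξ Δ V' ((idl (Δ ≫ ξ.i)).presheaf.map (homOfLE (up_mono ξ h)).op a) := by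
  rw [eta, eta, QCohLib.app_map (unitη ξ Δ) (homOfLE (up_mono ξ h)) a, QCohLib.map_map']
  exact (QCohLib.map_map' (M ξ Δ) (homOfLE (preimage_up ξ V').ge)
    ((Opens.map ξ.i.base).map (homOfLE (up_mono ξ h))) ((unitη ξ Δ).app (up ξ V) a)).symm

lemma eta_surjective (V : Y.affineOpens) : Function.Surjective (eta ξ Δ V.1) := by
  intro m
  haveI := isQCoh_idl (Δ ≫ ξ.i)
  obtain ⟨a, ha⟩ := unit_app_surjective ξ.i (idl (Δ ≫ ξ.i)) (DefGlueLib.isAffineOpen_up ξ V.2)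
    ((M ξ Δ).presheaf.map (homOfLE (preimage_up ξ V.1).le).op m)
  refine ⟨a, ?_⟩
  show (M ξ Δ).presheaf.map _ ((unitη ξ Δ).app (up ξ V.1) a) = m
  rw [show (unitη ξ Δ).app (up ξ V.1) a = _ from ha]
  exact (QCohLib.map_map' (M ξ Δ) _ _ m).trans (congr($((M ξ Δ).presheaf.map_id (op V.1)) m))

lemma unit_eq_zero_of_eta {V : Y.Opens} {a : Γ(idl (Δ ≫ ξ.i), up ξ V)} (h : eta ξ Δ V a = 0) :
    (unitη ξ Δ).app (up ξ V) a = 0 := by
  have h' := congrArg ((M ξ Δ).presheaf.map (homOfLE (preimage_up ξ V).le).op) h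
  rw [map_zero, eta, QCohLib.map_map'] at h'
  exact (congr($((M ξ Δ).presheaf.map_id _) _)).symm.trans h'

/-- The projection to functions on `Y`, before factoring. -/
def toO : M ξ Δ ⟶ Coh.structureModule Y :=
  ((Scheme.Modules.pullbackPushforwardAdjunction ξ.i).homEquiv _ _).symm
    (idlι (Δ ≫ ξ.i) ≫ ClSub.unitToPush ξ.i)

lemma unit_toO :
    unitη ξ Δ ≫ (Scheme.Modules.pushforward ξ.i).map (toO ξ Δ) = idlι (Δ ≫ ξ.i) ≫ ClSub.unitToPush ξ.i := by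
  have := (Scheme.Modules.pullbackPushforwardAdjunction ξ.i).homEquiv_unit (idl (Δ ≫ ξ.i)) _ (toO ξ Δ)
  rw [toO, Equiv.apply_symm_apply] at this
  exact this.symm

lemma toO_eta (V : Y.Opens) (a : Γ(idl (Δ ≫ ξ.i), up ξ V)) :
    (toO ξ Δ).app V (eta ξ Δ V a) = rd ξ V (val (Δ ≫ ξ.i) a) := by
  rw [eta, QCohLib.app_map (toO ξ Δ) (homOfLE (preimage_up ξ V).ge)]
  exact congrArg _ (congr(Scheme.Modules.Hom.app $(unit_toO ξ Δ) (up ξ V) a))

lemma toO_comp : toO ξ Δ ≫ ClSub.unitToPush Δ = 0 := hom_ext_affines fun V m => by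
  obtain ⟨a, rfl⟩ := eta_surjective ξ Δ V m
  show Δ.app V.1 ((toO ξ Δ).app V.1 (eta ξ Δ V.1 a)) = 0
  rw [toO_eta, app_comp_eq, app_val, map_zero]

/-- The projection to the ideal of `X` in `Y`. -/
def toI : M ξ Δ ⟶ idl Δ := kernel.lift _ (toO ξ Δ) (toO_comp ξ Δ)

lemma val_toI {V : Y.Opens} (m : Γ(M ξ Δ, V)) : val Δ ((toI ξ Δ).app V m) = (toO ξ Δ).app V m :=
  congr(Scheme.Modules.Hom.app $(kernel.lift_ι (ClSub.unitToPush Δ) (toO ξ Δ) (toO_comp ξ Δ)) V m)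

variable {n : ℕ} (φ : Frame A n)

/-- The sections given by the frame. -/
def sGlob (l : Fin n) : Γ(idl (Δ ≫ ξ.i), (⊤ : ξ.total.Opens)) :=
  mkI (Δ ≫ ξ.i) (glob ξ (φ.t l)) (app_glob ξ Δ _ (φ.mem l))

/-- The sections given by the frame over an open. -/
def sLoc (l : Fin n) (V : Y.Opens) : Γ(idl (Δ ≫ ξ.i), up ξ V) :=
  (idl (Δ ≫ ξ.i)).presheaf.map (homOfLE (le_top : up ξ V ≤ ⊤)).op (sGlob ξ Δ φ l)

lemma val_sLoc (l : Fin n) (V : Y.Opens) : val (Δ ≫ ξ.i) (sLoc ξ Δ φ l V) = tsec ξ (φ.t l) (up ξ V) := by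
  rw [sLoc, val_map, sGlob, val_mkI]
  rfl

/-- The global section of the restriction given by the frame. -/
def sM (l : Fin n) : Γ(M ξ Δ, (⊤ : Y.Opens)) :=
  (M ξ Δ).presheaf.map (homOfLE (le_of_eq (Scheme.Hom.preimage_top ξ.i).symm)).op
    ((unitη ξ Δ).app ⊤ (sGlob ξ Δ φ l))

lemma map_sM (l : Fin n) (V : Y.Opens) :
    (M ξ Δ).presheaf.map (homOfLE (le_top : V ≤ ⊤)).op (sM ξ Δ φ l) = eta ξ Δ V (sLoc ξ Δ φ l V) := by
  rw [sM, eta, sLoc, QCohLib.app_map (unitη ξ Δ) (homOfLE (le_top : up ξ V ≤ ⊤)), QCohLib.map_map']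
  exact (QCohLib.map_map' (M ξ Δ) (homOfLE (preimage_up ξ V).ge)
    ((Opens.map ξ.i.base).map (homOfLE (le_top : up ξ V ≤ ⊤))) _).symm

/-- Multiples of a frame element. -/
def fromO (l : Fin n) : Coh.structureModule Y ⟶ M ξ Δ := QCohLib.unitHom _ (sM ξ Δ φ l)

lemma fromO_rd (l : Fin n) (V : Y.Opens) (r : Γ(ξ.total, up ξ V)) :
    (fromO ξ Δ φ l).app V (rd ξ V r) = eta ξ Δ V (r • sLoc ξ Δ φ l V) := by
  rw [fromO, eta_smul, ← map_sM]
  exact QCohLib.unitHom_app _ _ _ _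

lemma fromO_idl (l : Fin n) : idlι Δ ≫ fromO ξ Δ φ l = 0 := hom_ext_affines fun V z => by
  obtain ⟨r, hr⟩ := DefGlueLib.rdS_surjective ξ V (val Δ z)
  have h0 : (Δ ≫ ξ.i).app (up ξ V.1) r = 0 := app_comp_eq_zero ξ Δ (by
    rw [rd_affine]
    exact (congrArg (Δ.app V.1) hr).trans (app_val Δ z))
  have key : r • sLoc ξ Δ φ l V.1 = tsec ξ (φ.t l) (up ξ V.1) • mkI (Δ ≫ ξ.i) r h0 :=
    val_injective _ (by rw [val_smul, val_smul, val_mkI, val_sLoc, mul_comm])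
  show (fromO ξ Δ φ l).app V.1 (val Δ z) = 0
  rw [← hr, ← rd_affine, fromO_rd, key, eta_smul, rd_tsec ξ _ (φ.mem l), zero_smul]

/-- `Δ_* O_X`. -/
abbrev pO : Y.Modules := (Scheme.Modules.pushforward Δ).obj (Coh.structureModule X)

/-- A frame element times `Δ_* O_X`. -/
def fromX (l : Fin n) : pO Δ ⟶ M ξ Δ :=
  haveI := QuotSchLib.epi_unitToPush Δ
  Abelian.epiDesc (ClSub.unitToPush Δ) (fromO ξ Δ φ l) (fromO_idl ξ Δ φ l)

lemma unit_fromX (l : Fin n) : ClSub.unitToPush Δ ≫ fromX ξ Δ φ l = fromO ξ Δ φ l :=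
  haveI := QuotSchLib.epi_unitToPush Δ
  Abelian.comp_epiDesc _ _ _

lemma fromX_app (l : Fin n) (V : Y.Opens) (r : Γ(ξ.total, up ξ V)) :
    (fromX ξ Δ φ l).app V (Δ.app V (rd ξ V r)) = eta ξ Δ V (r • sLoc ξ Δ φ l V) :=
  (congr(Scheme.Modules.Hom.app $(unit_fromX ξ Δ φ l) V (rd ξ V r))).trans (fromO_rd ξ Δ φ l V r)

lemma fromX_toI (l : Fin n) : fromX ξ Δ φ l ≫ toI ξ Δ = 0 := by
  haveI := QuotSchLib.epi_unitToPush Δ
  rw [← cancel_epi (ClSub.unitToPush Δ), ← Category.assoc, unit_fromX, comp_zero]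
  refine hom_ext_affines fun V b => ?_
  obtain ⟨r, hr⟩ := DefGlueLib.rdS_surjective ξ V (show Γ(Y, V.1) from b)
  refine val_injective Δ ?_
  show val Δ ((toI ξ Δ).app V.1 ((fromO ξ Δ φ l).app V.1 b)) = val Δ 0
  rw [← hr, ← rd_affine, fromO_rd, val_toI, toO_eta, val_smul, val_sLoc, map_mul, rd_tsec ξ _ (φ.mem l),
    mul_zero, val_zero]

/-- `⨁ Δ_* O_X`. -/
abbrev TX (n : ℕ) : Y.Modules := ⨁ fun _ : Fin n => pO Δ

/-- The extension. -/
def seq : ShortComplex Y.Modules :=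
  ShortComplex.mk (biproduct.desc (fromX ξ Δ φ)) (toI ξ Δ) (by
    refine biproduct.hom_ext' _ _ fun l => ?_
    rw [biproduct.ι_desc_assoc, fromX_toI, comp_zero])

lemma exists_lifts (V : Y.affineOpens) (a : Γ(TX Δ n, V.1)) :
    ∃ r : Fin n → Γ(ξ.total, up ξ V.1),
      (∀ l, Δ.app V.1 (rd ξ V.1 (r l)) = (biproduct.π (fun _ : Fin n => pO Δ) l).app V.1 a) ∧
        (biproduct.desc (fromX ξ Δ φ)).app V.1 a = eta ξ Δ V.1 (∑ l, r l • sLoc ξ Δ φ l V.1) := by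
  have h : ∀ l, ∃ r, Δ.app V.1 (rd ξ V.1 r) = (biproduct.π (fun _ : Fin n => pO Δ) l).app V.1 a := fun l => by
    obtain ⟨b, hb⟩ := Scheme.Hom.app_surjective Δ V.1 V.2 ((biproduct.π (fun _ : Fin n => pO Δ) l).app V.1 a)
    obtain ⟨r, hr⟩ := DefGlueLib.rdS_surjective ξ V b
    exact ⟨r, by rw [rd_affine, hr]; exact hb⟩
  choose r hr using h
  refine ⟨r, hr, ?_⟩
  rw [eta_sum]
  have e : biproduct.desc (fromX ξ Δ φ) = ∑ l, biproduct.π (fun _ : Fin n => pO Δ) l ≫ fromX ξ Δ φ l := by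
    refine biproduct.hom_ext' _ _ fun l => ?_
    rw [biproduct.ι_desc, Preadditive.comp_sum, Finset.sum_eq_single l]
    · rw [biproduct.ι_π_self_assoc]
    · intro j _ hj
      rw [biproduct.ι_π_ne_assoc _ (Ne.symm hj), zero_comp]
    · intro h
      exact absurd (Finset.mem_univ l) h
  refine ((congr(Scheme.Modules.Hom.app $e V.1 a)).trans (app_sum _ _ _ _)).trans
    (Finset.sum_congr rfl fun l _ => ?_)
  show (fromX ξ Δ φ l).app V.1 ((biproduct.π (fun _ : Fin n => pO Δ) l).app V.1 a) = _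
  rw [← hr l]
  exact fromX_app ξ Δ φ l V.1 (r l)

lemma rd_eq_zero_of_flat (V : Y.affineOpens) (c : Fin n → Γ(ξ.total, up ξ V.1))
    (h : ∑ l, c l * tsec ξ (φ.t l) (up ξ V.1) = 0) (l : Fin n) : rd ξ V.1 (c l) = 0 := by
  let R := Γ(ξ.total, up ξ V.1)
  letI : Algebra A R := (DefGlueLib.str ξ V).hom.toAlgebra
  haveI : Module.Flat A R := DefGlueLib.str_flat ξ V
  have hc : ∑ l, φ.t l • c l = 0 := by
    rw [← h]
    refine Finset.sum_congr rfl fun l _ => ?_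
    rw [Algebra.smul_def, tsec_str, mul_comm]
    rfl
  obtain ⟨κ, a, z, hz, ha⟩ := Module.Flat.isTrivialRelation_of_sum_smul_eq_zero (R := A) (M := R) (f := φ.t) (x := c) hc
  rw [rd_affine]
  show (DefGlueLib.rdS ξ V).hom (c l) = 0
  rw [hz l, map_sum]
  refine Finset.sum_eq_zero fun j _ => ?_
  rw [Algebra.smul_def, map_mul]
  refine mul_eq_zero_of_left ?_ _
  have hm : a l j ∈ IsLocalRing.maximalIdeal A :=
    φ.indep (fun l => a l j) (by rw [← ha j]; exact Finset.sum_congr rfl fun l _ => mul_comm _ _) l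
  refine (congr($(DefGlueLib.str_rdS ξ V) (a l j))).trans ?_
  show (DefGlueLib.str₀ (x := y) V).hom (A.res (a l j)) = 0
  rw [(Art.mem_maximalIdeal_iff A _).1 hm, map_zero]

lemma exists_val_eq (V : Y.affineOpens) (z : Γ(idl (Δ ≫ ξ.i), up ξ V.1)) (hz : eta ξ Δ V.1 z = 0) :
    ∃ j : Fin n → Γ(idl (Δ ≫ ξ.i), up ξ V.1),
      val (Δ ≫ ξ.i) z = ∑ l, tsec ξ (φ.t l) (up ξ V.1) * val (Δ ≫ ξ.i) (j l) := by
  haveI := isQCoh_idl (Δ ≫ ξ.i)
  have hz' := FormalCohLib.mem_of_unit_app_eq_zero ξ.i (idl (Δ ≫ ξ.i)) (DefGlueLib.isAffineOpen_up ξ V.2) z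
    (unit_eq_zero_of_eta ξ Δ hz)
  have hK : ξ.i.ker.ideal ⟨up ξ V.1, DefGlueLib.isAffineOpen_up ξ V.2⟩ ≤
      Ideal.span (Set.range fun l => tsec ξ (φ.t l) (up ξ V.1)) := by
    intro r hr
    rw [Scheme.Hom.ker_apply] at hr
    have h0 : DefGlueLib.rdS ξ V r = 0 := by
      rw [← rd_affine, rd, Scheme.Hom.appLE, CommRingCat.comp_apply, show ξ.i.app (up ξ V.1) r = 0 from hr, map_zero]
    have h1 := Ideal.map_mono φ.span (DefGlueLib.rdS_ker ξ V h0)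
    rw [Ideal.map_span, ← Set.range_comp] at h1
    exact (Ideal.span_mono (by rintro _ ⟨l, rfl⟩; exact ⟨l, tsec_str ξ (φ.t l) V⟩)) h1
  refine Submodule.smul_induction_on hz' (fun r hr m _ => ?_) fun a b ha hb => ?_
  · obtain ⟨c, hc⟩ := (Ideal.mem_span_range_iff_exists_fun).1 (hK hr)
    refine ⟨fun l => c l • m, ?_⟩
    rw [val_smul, ← hc, Finset.sum_mul]
    refine Finset.sum_congr rfl fun l _ => ?_
    rw [val_smul]
    ring
  · obtain ⟨ja, hja⟩ := ha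
    obtain ⟨jb, hjb⟩ := hb
    refine ⟨ja + jb, ?_⟩
    rw [val_add, hja, hjb, ← Finset.sum_add_distrib]
    refine Finset.sum_congr rfl fun l _ => ?_
    rw [Pi.add_apply, val_add, mul_add]

theorem seq_shortExact : (seq ξ Δ φ).ShortExact := by
  refine shortExact_of_affines (fun V => ?_) (fun V m hm => ?_) fun V b => ?_
  · refine (injective_iff_map_eq_zero ((biproduct.desc (fromX ξ Δ φ)).app V.1).hom).2 fun a ha => ?_
    obtain ⟨r, hr, he⟩ := exists_lifts ξ Δ φ V a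
    obtain ⟨j, hj⟩ := exists_val_eq ξ Δ φ V _ (he.symm.trans ha)
    have h0 := rd_eq_zero_of_flat ξ φ V (fun l => r l - val (Δ ≫ ξ.i) (j l)) (by
      rw [val_sum] at hj
      simp only [sub_mul, Finset.sum_sub_distrib, sub_eq_zero]
      refine Eq.trans ?_ (hj.trans (Finset.sum_congr rfl fun l _ => mul_comm _ _))
      exact Finset.sum_congr rfl fun l _ => by rw [val_smul, val_sLoc])
    have hb : ∀ l, (biproduct.π (fun _ : Fin n => pO Δ) l).app V.1 a = 0 := fun l => by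
      rw [← hr l, ← sub_add_cancel (r l) (val (Δ ≫ ξ.i) (j l)), map_add (rd ξ V.1).hom, h0 l, zero_add,
        app_comp_eq, app_val, map_zero]
    refine ((congr(Scheme.Modules.Hom.app $(biproduct.total (f := fun _ : Fin n => pO Δ)) V.1 a)).symm.trans
      (app_sum _ _ _ _)).trans (Finset.sum_eq_zero fun l _ => ?_)
    show (biproduct.ι (fun _ : Fin n => pO Δ) l).app V.1 ((biproduct.π (fun _ : Fin n => pO Δ) l).app V.1 a) = 0
    rw [hb l, map_zero]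
  · obtain ⟨z, rfl⟩ := eta_surjective ξ Δ V m
    have h0 : rd ξ V.1 (val (Δ ≫ ξ.i) z) = 0 := by
      rw [← toO_eta, ← val_toI]
      exact (congrArg (val Δ) hm).trans (val_zero Δ)
    have h1 := Ideal.map_mono φ.span (DefGlueLib.rdS_ker ξ V h0)
    rw [Ideal.map_span, ← Set.range_comp] at h1
    obtain ⟨c, hc⟩ := Ideal.mem_span_range_iff_exists_fun.1 h1
    have hz : z = ∑ l, c l • sLoc ξ Δ φ l V.1 := val_injective _ (by
      rw [val_sum, ← hc]
      refine Finset.sum_congr rfl fun l _ => ?_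
      rw [val_smul, val_sLoc, tsec_str]
      rfl)
    refine ⟨∑ l, (biproduct.ι (fun _ : Fin n => pO Δ) l).app V.1 (Δ.app V.1 (rd ξ V.1 (c l))), ?_⟩
    rw [map_sum, hz, eta_sum]
    refine Finset.sum_congr rfl fun l _ => Eq.trans ?_ (fromX_app ξ Δ φ l V.1 (c l))
    exact congr(Scheme.Modules.Hom.app $(biproduct.ι_desc (fromX ξ Δ φ) l) V.1 (Δ.app V.1 (rd ξ V.1 (c l))))
  · obtain ⟨r, hr⟩ := DefGlueLib.rdS_surjective ξ V (val Δ b)
    have h0 : (Δ ≫ ξ.i).app (up ξ V.1) r = 0 := app_comp_eq_zero ξ Δ (by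
      rw [rd_affine]
      exact (congrArg (Δ.app V.1) hr).trans (app_val Δ b))
    refine ⟨eta ξ Δ V.1 (mkI (Δ ≫ ξ.i) r h0), val_injective Δ ?_⟩
    show val Δ ((toI ξ Δ).app V.1 _) = _
    rw [val_toI, toO_eta, val_mkI, rd_affine]
    exact hr

end DefClassLib
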